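import Mathlib
import Cfsg.Prelude.Def_LieExceptional
import Cfsg.Prelude.Def_OddOrderLocal
import Cfsg.Agent.Lib.H1.Coprime2
import Cfsg.Agent.Lib.H28.RelSyl
import Cfsg.Agent.Lib.H73.Nilp
import Cfsg.Agent.Lib.H3.PBasic
import Cfsg.Agent.Lib.H30.FrobAct

set_option autoImplicit false

/-! Quotients of CN-groups by solvable normal subgroups. -/

namespace H30.CN

open Cfsg Subgroup H28.RelSyl

universe u

section
variable {G : Type*} [Group G] [Finite G]

theorem exists_fixed_pt {p : ℕ} [hp : Fact p.Prime] (P N : Subgroup G) (hP : IsPGroup p P) (hN : IsPGroup p N)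
    (hPN : P ≤ normalizer (N : Set G)) (hN1 : N ≠ ⊥) : ∃ z ∈ N, z ≠ 1 ∧ z ∈ centralizer (P : Set G) := by
  set M := P ⊔ N with hM
  have hMp : IsPGroup p M := IsPGroup.to_sup_of_normal_right' hP hN hPN
  have hNM : N ≤ M := le_sup_right
  have hPM : P ≤ M := le_sup_left
  have hn : (N.subgroupOf M).Normal :=
    (Subgroup.normal_subgroupOf_iff_le_normalizer hNM).2 (sup_le hPN le_normalizer)
  have hnil : Group.IsNilpotent M := hMp.isNilpotent
  have h1 := H3.PBasic.normal_inf_center_ne_bot (G := M) (N.subgroupOf M) (by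
    intro h
    rw [Subgroup.subgroupOf_eq_bot, disjoint_iff, inf_eq_left.2 hNM] at h
    exact hN1 h)
  obtain ⟨z, hz⟩ := (Subgroup.ne_bot_iff_exists_ne_one).1 h1
  obtain ⟨hz2, hz3⟩ := z.2
  refine ⟨(z : M), hz2, ?_, ?_⟩
  · intro h
    apply hz
    exact Subtype.ext (Subtype.ext h)
  · intro y hy
    exact congrArg Subtype.val (Subgroup.mem_center_iff.1 hz3 ⟨y, hPM hy⟩)

theorem le_of_sylows (C D : Subgroup G) (h : ∀ q : ℕ, q.Prime → ∃ T, IsSyl q T C ∧ T ≤ D) : C ≤ D := by
  have h1 : (D ⊓ C).relIndex C = 1 := by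
    by_contra hne
    obtain ⟨q, hq, hd⟩ := Nat.exists_prime_and_dvd hne
    obtain ⟨T, hT, hTD⟩ := h q hq
    apply hT.not_dvd
    rw [← Subgroup.relIndex_mul_relIndex T (D ⊓ C) C (le_inf hTD hT.le) inf_le_right]
    exact Dvd.dvd.mul_left hd _
  exact (Subgroup.relIndex_eq_one.1 h1).trans inf_le_left

theorem nilpotent_of_le {H K : Subgroup G} (h : H ≤ K) (hK : Group.IsNilpotent K) : Group.IsNilpotent H :=
  Group.nilpotent_of_mulEquiv (Subgroup.subgroupOfEquivOfLe h)

theorem cn_of_equiv {G' : Type*} [Group G'] (e : G ≃* G') (h : IsCNGroup G) : IsCNGroup G' := by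
  intro x hx
  have h1 := h (e.symm x) (by
    intro h0
    apply hx
    have := congrArg e h0
    simpa using this)
  have h2 : (centralizer ({e.symm x} : Set G)).map e.toMonoidHom = centralizer ({x} : Set G') := by
    ext y
    constructor
    · rintro ⟨z, hz, rfl⟩
      rw [SetLike.mem_coe, mem_centralizer_singleton_iff] at hz
      rw [mem_centralizer_singleton_iff]
      have := congrArg e hz
      simpa using this
    · intro hy
      rw [mem_centralizer_singleton_iff] at hy
      refine ⟨e.symm y, ?_, by simp⟩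
      rw [SetLike.mem_coe, mem_centralizer_singleton_iff]
      have := congrArg e.symm hy
      simpa using this
  rw [← h2]
  exact Group.nilpotent_of_mulEquiv (Subgroup.equivMapOfInjective _ _ e.injective)

theorem step (hCN : IsCNGroup G) (N : Subgroup G) [hNn : N.Normal] (p : ℕ) [hp : Fact p.Prime] (hN : IsPGroup p N)
    (hab : IsMulCommutative N) (hN1 : N ≠ ⊥) : IsCNGroup (G ⧸ N) := by
  -- reduction to elements of prime order
  suffices key : ∀ (r : ℕ) (_ : r.Prime) (xb : G ⧸ N), orderOf xb = r → Group.IsNilpotent (centralizer ({xb} : Set (G ⧸ N))) by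
    intro xb hxb
    have h1 : orderOf xb ≠ 1 := fun h => hxb (orderOf_eq_one_iff.1 h)
    obtain ⟨r, hr, hd⟩ := Nat.exists_prime_and_dvd h1
    obtain ⟨m, hm⟩ := hd
    have h2 : orderOf (xb ^ m) = r := by
      have hm0 : m ≠ 0 := by
        rintro rfl
        rw [mul_zero] at hm
        exact (orderOf_pos xb).ne' hm
      rw [orderOf_pow' _ hm0, hm, Nat.gcd_mul_left_left, Nat.mul_div_cancel _ (Nat.pos_of_ne_zero hm0)]
    refine nilpotent_of_le ?_ (key r hr (xb ^ m) h2)
    intro y hy
    rw [mem_centralizer_singleton_iff] at hy ⊢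
    exact (show Commute y xb from hy).pow_right m
  intro r hr xb hxb
  set f := QuotientGroup.mk' N with hf
  have hfs : Function.Surjective f := QuotientGroup.mk'_surjective N
  have hfk : ∀ x : G, f x = 1 ↔ x ∈ N := fun x => QuotientGroup.eq_one_iff x
  have hNG : ∀ A : Subgroup G, A ≤ normalizer (N : Set G) := fun A => by
    rw [Subgroup.normalizer_eq_top]; exact le_top
  have hNs : Group.IsSolvable N := by
    have := hN.isNilpotent
    infer_instance
  obtain ⟨x₀, hx₀⟩ := hfs xb
  obtain ⟨k, hk⟩ := IsPGroup.iff_card.1 hN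
  have hxb1 : xb ≠ 1 := by
    rintro rfl
    rw [orderOf_one] at hxb
    exact hr.one_lt.ne hxb
  have hcomm : ∀ (x g : G), f g * f x = f x * f g → ∀ a ∈ zpowers x, g⁻¹ * a * g * a⁻¹ ∈ N := by
    intro x g hgx a ha
    obtain ⟨n, rfl⟩ := ha
    rw [← hfk]
    have h1 : Commute (f g) (f x ^ n) := (show Commute (f g) (f x) from hgx).zpow_right n
    simp only [map_mul, map_inv, map_zpow]
    rw [mul_assoc ((f g)⁻¹), ← h1.eq]
    group
  by_cases hrp : r = p
  · -- `p`-elements
    subst hrp
    set C := (centralizer ({xb} : Set (G ⧸ N))).comap f with hC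
    have hCx : ∀ g : G, g ∈ C → f g * f x₀ = f x₀ * f g := by
      intro g hg
      have h1 : f g ∈ centralizer ({xb} : Set (G ⧸ N)) := hg
      rw [mem_centralizer_singleton_iff, ← hx₀] at h1
      exact h1
    have hCmap : C.map f = centralizer ({xb} : Set (G ⧸ N)) := Subgroup.map_comap_eq_self_of_surjective hfs _
    -- `p'`-elements of `C` centralize `N`
    have hcent : ∀ y ∈ C, (orderOf y).Coprime r → y ∈ centralizer (N : Set G) := by
      intro y hy hyo
      have hcop : (Nat.card (zpowers y)).Coprime (Nat.card N) := by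
        rw [Nat.card_zpowers, hk]
        exact Nat.Coprime.pow_right k hyo
      obtain ⟨c, hc, hcN⟩ := H1.Coprime.exists_fixed_in_coset (zpowers y) N (hNG _) hcop (Or.inr hNs) x₀ (by
        intro a ha
        exact hcomm y x₀ (hCx y hy).symm a ha)
      have hfc : f c = xb := by
        rw [← hx₀]
        have h1 : f (x₀⁻¹ * c) = 1 := (hfk _).2 hcN
        rw [map_mul, map_inv] at h1
        exact (inv_mul_eq_one.1 h1).symm
      have hc1 : c ≠ 1 := by
        rintro rfl
        rw [map_one] at hfc
        exact hxb1 hfc.symm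
      have hcp : IsPGroup r (zpowers c) := by
        have h1 : c ^ r ∈ N := by
          rw [← hfk, map_pow, hfc, ← hxb]
          exact pow_orderOf_eq_one xb
        apply IsPGroup.iff_card.2
        rw [Nat.card_zpowers]
        have h2 : orderOf c ∣ r ^ (1 + k) := by
          apply orderOf_dvd_of_pow_eq_one
          rw [pow_add, pow_one, pow_mul]
          have h3 : (⟨c ^ r, h1⟩ : N) ^ Nat.card N = 1 := pow_card_eq_one'
          rw [hk] at h3
          exact congrArg Subtype.val h3
        obtain ⟨j, _, hj⟩ := (Nat.dvd_prime_pow hr).1 h2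
        exact ⟨j, hj⟩
      obtain ⟨w, hwN, hw1, hwc⟩ := exists_fixed_pt (zpowers c) N hcp hN (hNG _) hN1
      have hwc' : w ∈ centralizer ({c} : Set G) := by
        rw [mem_centralizer_singleton_iff]
        exact (hwc c (mem_zpowers c)).symm
      have hyc' : y ∈ centralizer ({c} : Set G) := by
        rw [mem_centralizer_singleton_iff]
        exact hc y (mem_zpowers y)
      have hyw : y ∈ centralizer (zpowers w : Set G) := by
        refine H73.Nilp.mem_centralizer_of_le (hCN c hc1) (hN.to_le ?_) ?_ hyc' hyo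
        · exact (Subgroup.zpowers_le).2 hwN
        · exact (Subgroup.zpowers_le).2 hwc'
      refine H73.Nilp.mem_centralizer_of_le (hCN w hw1) hN ?_ ?_ hyo
      · intro n hn
        rw [mem_centralizer_singleton_iff]
        exact congrArg Subtype.val (mul_comm' (⟨n, hn⟩ : N) ⟨w, hwN⟩)
      · rw [mem_centralizer_singleton_iff]
        exact (hyw w (mem_zpowers w)).symm
    obtain ⟨S, hS⟩ := exists_isSyl r C
    obtain ⟨z, hzN, hz1, hzS⟩ := exists_fixed_pt S N hS.isPGroup hN (hNG _) hN1
    have hCz : C ≤ centralizer ({z} : Set G) := by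
      apply le_of_sylows
      intro q hq
      by_cases hqr : q = r
      · subst hqr
        refine ⟨S, hS, ?_⟩
        intro s hs
        rw [mem_centralizer_singleton_iff]
        exact hzS s hs
      · have := Fact.mk hq
        obtain ⟨T, hT⟩ := exists_isSyl q C
        refine ⟨T, hT, ?_⟩
        intro t ht
        have h1 : (orderOf t).Coprime r := by
          obtain ⟨j, hj⟩ := (IsPGroup.iff_orderOf.mp hT.isPGroup) ⟨t, ht⟩
          rw [Subgroup.orderOf_mk] at hj
          rw [hj]
          exact Nat.Coprime.pow_left j ((Nat.coprime_primes hq hr).2 hqr)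
        have h2 := hcent t (hT.le ht) h1
        rw [mem_centralizer_singleton_iff]
        exact (h2 z hzN).symm
    have hCnil : Group.IsNilpotent C := nilpotent_of_le hCz (hCN z hz1)
    rw [← hCmap]
    exact Group.nilpotent_of_surjective (f.subgroupMap C) (MonoidHom.subgroupMap_surjective f C)
  · -- `p'`-elements
    have hcopr : (p ^ k).Coprime r := Nat.Coprime.pow_left k ((Nat.coprime_primes hp.out hr).2 (Ne.symm hrp))
    obtain ⟨s, hs1, hs2⟩ := Nat.chineseRemainder hcopr 0 1
    set x := x₀ ^ s with hx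
    have hfx : f x = xb := by
      rw [hx, map_pow, hx₀]
      have h1 : xb ^ s = xb ^ 1 := by
        rw [pow_eq_pow_iff_modEq, hxb]; exact hs2
      rw [h1, pow_one]
    have hxr : x ^ r = 1 := by
      have h1 : x₀ ^ r ∈ N := by
        rw [← hfk, map_pow, hx₀, ← hxb]
        exact pow_orderOf_eq_one xb
      have h2 : (x₀ ^ r) ^ (p ^ k) = 1 := by
        have h3 : (⟨x₀ ^ r, h1⟩ : N) ^ Nat.card N = 1 := pow_card_eq_one'
        rw [hk] at h3
        exact congrArg Subtype.val h3
      obtain ⟨t, ht⟩ := (Nat.modEq_zero_iff_dvd.1 hs1)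
      rw [hx, ← pow_mul, mul_comm, pow_mul, ht, pow_mul, h2, one_pow]
    have hx1 : x ≠ 1 := by
      intro h
      rw [h, map_one] at hfx
      exact hxb1 hfx.symm
    have hxo : (Nat.card (zpowers x)).Coprime (Nat.card N) := by
      rw [Nat.card_zpowers, hk]
      refine Nat.Coprime.coprime_dvd_left (orderOf_dvd_of_pow_eq_one hxr) hcopr.symm
    have hle : centralizer ({xb} : Set (G ⧸ N)) ≤ (centralizer ({x} : Set G)).map f := by
      intro gb hgb
      obtain ⟨g, rfl⟩ := hfs gb
      rw [mem_centralizer_singleton_iff, ← hfx] at hgb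
      obtain ⟨c, hc, hcN⟩ := H1.Coprime.exists_fixed_in_coset (zpowers x) N (hNG _) hxo (Or.inr hNs) g (hcomm x g hgb)
      refine ⟨c, ?_, ?_⟩
      · rw [SetLike.mem_coe, mem_centralizer_singleton_iff]
        exact (hc x (mem_zpowers x)).symm
      · have h1 : f (g⁻¹ * c) = 1 := (hfk _).2 hcN
        rw [map_mul, map_inv] at h1
        exact (inv_mul_eq_one.1 h1).symm
    refine nilpotent_of_le hle ?_
    have := hCN x hx1
    exact Group.nilpotent_of_surjective (f.subgroupMap (centralizer ({x} : Set G))) (MonoidHom.subgroupMap_surjective f _)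

end

theorem main_aux (n : ℕ) : ∀ (G : Type u) [Group G] [Finite G], IsCNGroup G → ∀ (H : Subgroup G) [H.Normal],
    Group.IsSolvable H → Nat.card H = n → IsCNGroup (G ⧸ H) := by
  induction n using Nat.strong_induction_on with
  | _ n ih =>
  intro G _ _ hCN H hHn hHs hn
  subst hn
  by_cases hbot : H = ⊥
  · subst hbot
    exact cn_of_equiv QuotientGroup.quotientBot.symm hCN
  obtain ⟨N, ⟨hNn, hNH, hNbot⟩, hNmin'⟩ := (Set.toFinite {N : Subgroup G | N.Normal ∧ N ≤ H ∧ N ≠ ⊥}).exists_minimal
    ⟨H, hHn, le_rfl, hbot⟩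
  have hNmin : ∀ M : Subgroup G, M.Normal → M ≤ N → M = ⊥ ∨ M = N := by
    intro M hM hMN
    by_cases h : M = ⊥
    · exact Or.inl h
    · exact Or.inr (le_antisymm hMN (hNmin' ⟨hM, hMN.trans hNH, h⟩ hMN))
  obtain ⟨p, hp, hNel⟩ := FrobAct.min_elem N (H1.Coprime.isSolvable_of_le hNH hHs) hNbot hNmin
  have := Fact.mk hp
  have hNp : IsPGroup p N := fun x => ⟨1, by
      rw [pow_one]
      ext
      exact hNel.2 x x.2⟩
  have h1 := step hCN N p hNp hNel.1 hNbot
  have hcard : Nat.card (H.map (QuotientGroup.mk' N)) < Nat.card H := by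
    have h2 := H1.Cores.card_map_mk' N H hNH
    have h3 : 1 < Nat.card N := (Subgroup.one_lt_card_iff_ne_bot N).2 hNbot
    have h4 : 0 < Nat.card (H.map (QuotientGroup.mk' N)) := Nat.card_pos
    rw [← h2]
    nlinarith
  have hn2 : (H.map (QuotientGroup.mk' N)).Normal := Subgroup.Normal.map inferInstance _ (QuotientGroup.mk'_surjective N)
  have h2 := ih _ hcard (G ⧸ N) h1 (H.map (QuotientGroup.mk' N))
    (Group.isSolvable_of_surjective (MonoidHom.subgroupMap_surjective (QuotientGroup.mk' N) H)) rfl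
  exact cn_of_equiv (QuotientGroup.quotientQuotientEquivQuotient N H hNH) h2

end H30.CN
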