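import Mathlib
import Cfsg.Prelude.Def_LieExceptional
import Cfsg.Prelude.Def_OddOrderLocal
import Cfsg.Agent.Lib.H30.CNQ
import Cfsg.Agent.Lib.H29.FitHall
import Cfsg.Agent.Lib.H1.Frob
import Cfsg.Agent.S0069

set_option autoImplicit false

/-! CN-groups with a normal Sylow subgroup. -/

namespace H30.CN

open Cfsg Subgroup H28.RelSyl

universe u

section
variable {G : Type u} [Group G] [Finite G]

theorem coprime_orderOf_of_isPGroup {q p : ℕ} [hq : Fact q.Prime] [hp : Fact p.Prime] (hqp : q ≠ p) {Q : Subgroup G} (hQ : IsPGroup q Q)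
    {t : G} (ht : t ∈ Q) : (orderOf t).Coprime p := by
  obtain ⟨j, hj⟩ := (IsPGroup.iff_orderOf.mp hQ) ⟨t, ht⟩
  rw [Subgroup.orderOf_mk] at hj
  rw [hj]
  exact Nat.Coprime.pow_left j ((Nat.coprime_primes hq.out hp.out).2 hqp)

theorem isPGroup_zpowers {p : ℕ} (hp : p.Prime) {x : G} (hx : orderOf x = p) : IsPGroup p (zpowers x) := by
  have := Fact.mk hp
  exact IsPGroup.iff_card.2 ⟨1, by rw [Nat.card_zpowers, hx, pow_one]⟩

/-- Two elements of coprime prime power order in the (nilpotent) centralizer of a third. -/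
theorem commute_of_cn (hCN : IsCNGroup G) {x : G} (hx : x ≠ 1) {p : ℕ} [hp : Fact p.Prime] {P : Subgroup G} (hP : IsPGroup p P)
    (hPx : P ≤ centralizer ({x} : Set G)) {e : G} (he : e ∈ centralizer ({x} : Set G)) (heo : (orderOf e).Coprime p) :
    e ∈ centralizer (P : Set G) :=
  H73.Nilp.mem_centralizer_of_le (hCN x hx) hP hPx he heo

theorem sylow_normal_of_centralizes (hCN : IsCNGroup G) (p : ℕ) [hp : Fact p.Prime] (P : Subgroup G) [hPn : P.Normal] (hP : IsPGroup p P)
    (hP1 : P ≠ ⊥) (q : ℕ) [hq : Fact q.Prime] (hqp : q ≠ p) (hd : q ∣ Nat.card (centralizer (P : Set G))) (Q : Sylow q G) :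
    (Q : Subgroup G).Normal := by
  set D := centralizer (P : Set G) with hD
  have hDn : D.Normal := inferInstance
  obtain ⟨x, hx, hx1⟩ : ∃ x ∈ P, x ≠ 1 := by
    by_contra hcon
    push Not at hcon
    exact hP1 ((Subgroup.eq_bot_iff_forall P).2 hcon)
  have hDx : D ≤ centralizer ({x} : Set G) := by
    intro y hy
    rw [mem_centralizer_singleton_iff]
    exact (hy x hx).symm
  have hDnil : Group.IsNilpotent D := nilpotent_of_le hDx (hCN x hx1)
  have hQs : IsSyl q (Q : Subgroup G) ⊤ := isSyl_top Q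
  have hQD : IsSyl q ((Q : Subgroup G) ⊓ D) D :=
    hQs.inf_normal (by rw [Subgroup.normalizer_eq_top]) le_top
  have hQ0 : (Q : Subgroup G) ⊓ D ≠ ⊥ := hQD.ne_bot hd
  obtain ⟨w, hwQ, hw1, hwc⟩ := exists_fixed_pt (Q : Subgroup G) ((Q : Subgroup G) ⊓ D) Q.isPGroup' (Q.isPGroup'.to_le inf_le_left)
    (H1.Coprime2.le_normalizer_inf le_normalizer (by rw [Subgroup.normalizer_eq_top]; exact le_top)) hQ0
  have hQw : (Q : Subgroup G) ≤ centralizer ({w} : Set G) := by
    intro y hy
    rw [mem_centralizer_singleton_iff]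
    exact hwc y hy
  have hPw : P ≤ centralizer ({w} : Set G) := by
    intro y hy
    rw [mem_centralizer_singleton_iff]
    exact hwQ.2 y hy
  have hQle : (Q : Subgroup G) ≤ D := by
    intro y hy
    exact commute_of_cn hCN hw1 hP hPw (hQw hy) (coprime_orderOf_of_isPGroup hqp Q.isPGroup' hy)
  have h1 : (Q : Subgroup G) = pCore q G := by
    apply le_antisymm _ (H1.Cores.pCore_le_sylow Q)
    have h2 : (Q : Subgroup G).subgroupOf D ≤ pCore q D := by
      have hS : IsSyl q ((Q : Subgroup G) ⊓ D) D := hQD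
      rw [inf_eq_left.2 hQle] at hS
      have h3 := H73.Nilp.sylow_normal (M := D) hS.toSylow
      rw [hS.coe_toSylow] at h3
      exact H1.Cores.le_pCore h3 ((isPGroup_subgroupOf hQle).2 Q.isPGroup')
    intro y hy
    have h4 : y ∈ (pCore q D).map D.subtype := ⟨⟨y, hQle hy⟩, h2 (Subgroup.mem_subgroupOf.2 hy), rfl⟩
    rw [H1.Cores.map_subtype_pCore] at h4
    exact h4.2
  rw [h1]
  infer_instance

theorem le_fittingHall_of_sylow_normal (q : ℕ) [hq : Fact q.Prime] (Q : Sylow q G) (hQn : (Q : Subgroup G).Normal) :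
    (Q : Subgroup G) ≤ fittingHall G := by
  apply H29.FitHall.le_fittingHall hQn Q.isPGroup'.isNilpotent
  obtain ⟨k, hk⟩ := IsPGroup.iff_card.1 Q.isPGroup'
  rw [hk]
  exact Nat.Coprime.pow_left k ((Nat.Prime.coprime_iff_not_dvd hq.out).2 Q.not_dvd_index)

theorem exists_prime_power {x : G} (hx : x ≠ 1) : ∃ (q m : ℕ), q.Prime ∧ orderOf (x ^ m) = q := by
  have h1 : orderOf x ≠ 1 := fun h => hx (orderOf_eq_one_iff.1 h)
  obtain ⟨r, hr, hd⟩ := Nat.exists_prime_and_dvd h1
  obtain ⟨m, hm⟩ := hd
  have hm0 : m ≠ 0 := by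
    rintro rfl
    rw [mul_zero] at hm
    exact (orderOf_pos x).ne' hm
  exact ⟨r, m, hr, by rw [orderOf_pow' _ hm0, hm, Nat.gcd_mul_left_left, Nat.mul_div_cancel _ (Nat.pos_of_ne_zero hm0)]⟩

theorem centralizer_le_pow (x : G) (m : ℕ) : centralizer ({x} : Set G) ≤ centralizer ({x ^ m} : Set G) := by
  intro y hy
  rw [mem_centralizer_singleton_iff] at hy ⊢
  exact (show Commute y x from hy).pow_right m

/-- S1474 -/
theorem normal_sylow (hCN : IsCNGroup G) (hnn : ¬ Group.IsNilpotent G) (p : ℕ) [hp : Fact p.Prime] (P : Sylow p G)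
    (hP1 : (P : Subgroup G) ≠ ⊥) (hPn : (P : Subgroup G).Normal) :
    fittingHall G ≠ ⊥ ∧ fittingHall G ≠ ⊤ ∧
      (∃ E : Subgroup G, IsComplement' (fittingHall G) E ∧ IsFrobeniusComplement E ∧
        (∀ e ∈ E, e ≠ 1 → fittingHall G ⊓ centralizer ({e} : Set G) = ⊥) ∧ E ≠ ⊥ ∧ Group.IsNilpotent E) ∧
      Group.IsNilpotent (G ⧸ fittingHall G) := by
  set H := fittingHall G with hH
  have hHnil : Group.IsNilpotent H := H29.FitHall.isNilpotent_fittingHall
  have hHcop : (Nat.card H).Coprime H.index := H29.FitHall.coprime_fittingHall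
  have hPH : (P : Subgroup G) ≤ H := le_fittingHall_of_sylow_normal p P hPn
  have hHbot : H ≠ ⊥ := by
    intro h
    apply hP1
    rw [eq_bot_iff, ← h]
    exact hPH
  have hHtop : H ≠ ⊤ := by
    intro h
    apply hnn
    have h1 : Group.IsNilpotent (⊤ : Subgroup G) := by rw [← h]; exact hHnil
    exact Group.nilpotent_of_mulEquiv (Subgroup.topEquiv : (⊤ : Subgroup G) ≃* G)
  obtain ⟨E, hE⟩ := Subgroup.exists_right_complement'_of_coprime hHcop
  have hEcard : Nat.card E = H.index := hE.symm.index_eq_card.symm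
  have hEbot : E ≠ ⊥ := by
    intro h
    apply hHtop
    rw [← Subgroup.index_eq_one, ← hEcard, h, Subgroup.card_bot]
  -- a nontrivial central element of `H` of prime order
  have hHnt : Nontrivial H := (Subgroup.nontrivial_iff_ne_bot H).2 hHbot
  obtain ⟨z, hzH, hz1, hzc⟩ : ∃ z ∈ H, z ≠ 1 ∧ z ∈ centralizer (H : Set G) := by
    have h1 : center H ≠ ⊥ := Group.IsNilpotent.center_ne_bot H
    obtain ⟨z, hz⟩ := (Subgroup.ne_bot_iff_exists_ne_one).1 h1
    refine ⟨((z : H) : G), (z : H).2, ?_, ?_⟩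
    · intro h
      exact hz (Subtype.ext (Subtype.ext h))
    · intro y hy
      exact congrArg Subtype.val (Subgroup.mem_center_iff.1 z.2 ⟨y, hy⟩)
  have hfpf : ∀ e ∈ E, e ≠ 1 → H ⊓ centralizer ({e} : Set G) = ⊥ := by
    -- reduction to prime order
    have key : ∀ e ∈ E, ∀ q : ℕ, q.Prime → orderOf e = q → H ⊓ centralizer ({e} : Set G) = ⊥ := by
      intro e he q hq heo
      have := Fact.mk hq
      by_contra hne
      obtain ⟨h, hh, hh1⟩ : ∃ h ∈ H ⊓ centralizer ({e} : Set G), h ≠ 1 := by
        by_contra hcon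
        push Not at hcon
        exact hne ((Subgroup.eq_bot_iff_forall _).2 hcon)
      obtain ⟨t, m, ht, htm⟩ := exists_prime_power hz1
      have := Fact.mk ht
      have hqH : ¬ q ∣ Nat.card H := by
        intro hd
        have h2 : q ∣ Nat.card E := by
          rw [← heo]
          have := orderOf_dvd_natCard (⟨e, he⟩ : E)
          rwa [Subgroup.orderOf_mk] at this
        rw [hEcard] at h2
        exact Nat.Prime.not_coprime_iff_dvd.2 ⟨q, hq, hd, h2⟩ hHcop
      have htH : t ∣ Nat.card H := by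
        rw [← htm]
        have := orderOf_dvd_natCard (⟨z ^ m, H.pow_mem hzH m⟩ : H)
        rwa [Subgroup.orderOf_mk] at this
      have htq : q ≠ t := by
        rintro rfl
        exact hqH htH
      have hpH : q ≠ p := by
        rintro rfl
        apply hqH
        refine dvd_trans ?_ (Subgroup.card_dvd_of_le hPH)
        obtain ⟨k, hk⟩ := IsPGroup.iff_card.1 P.isPGroup'
        rw [hk]
        apply dvd_pow_self
        rintro rfl
        rw [pow_zero] at hk
        exact hP1 (Subgroup.card_eq_one.1 hk)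
      have hzm1 : z ^ m ≠ 1 := by
        intro h0
        rw [h0, orderOf_one] at htm
        exact ht.one_lt.ne htm
      -- `e` commutes with `z^m`
      have heh : e ∈ centralizer ({h} : Set G) := by
        exact mem_centralizer_singleton_iff.2 (mem_centralizer_singleton_iff.1 hh.2).symm
      have hzh : zpowers (z ^ m) ≤ centralizer ({h} : Set G) := by
        rw [Subgroup.zpowers_le]
        apply Subgroup.pow_mem
        rw [mem_centralizer_singleton_iff]
        exact (hzc h hh.1).symm
      have hez : e ∈ centralizer (zpowers (z ^ m) : Set G) :=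
        commute_of_cn hCN hh1 (isPGroup_zpowers ht htm) hzh heh (by
          rw [heo]; exact (Nat.coprime_primes hq ht).2 htq)
      have hez' : e ∈ centralizer ({z ^ m} : Set G) := by
        rw [mem_centralizer_singleton_iff]
        exact (hez _ (mem_zpowers _)).symm
      have hHz : H ≤ centralizer ({z ^ m} : Set G) := by
        refine le_trans ?_ (centralizer_le_pow z m)
        intro y hy
        rw [mem_centralizer_singleton_iff]
        exact hzc y hy
      have heP : e ∈ centralizer ((P : Subgroup G) : Set G) :=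
        commute_of_cn hCN hzm1 P.isPGroup' (hPH.trans hHz) hez' (by
          rw [heo]; exact (Nat.coprime_primes hq hp.out).2 hpH)
      have hqC : q ∣ Nat.card (centralizer ((P : Subgroup G) : Set G)) := by
        rw [← heo]
        have := orderOf_dvd_natCard (⟨e, heP⟩ : centralizer ((P : Subgroup G) : Set G))
        rwa [Subgroup.orderOf_mk] at this
      obtain ⟨Q⟩ : Nonempty (Sylow q G) := inferInstance
      have hQn := sylow_normal_of_centralizes hCN p (P : Subgroup G) P.isPGroup' hP1 q hpH hqC Q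
      have hQH := le_fittingHall_of_sylow_normal q Q hQn
      apply hqH
      have hQG : q ∣ Nat.card G := hqC.trans (Subgroup.card_subgroup_dvd_card _)
      have h3 : q ∣ Nat.card Q := by
        have h4 := (isSyl_top Q).dvd_card (by rwa [Subgroup.card_top])
        exact h4
      exact h3.trans (Subgroup.card_dvd_of_le hQH)
    intro e he he1
    obtain ⟨q, m, hq, hqm⟩ := exists_prime_power he1
    have h1 := key (e ^ m) (E.pow_mem he m) q hq hqm
    rw [eq_bot_iff, ← h1]
    exact inf_le_inf_left _ (centralizer_le_pow e m)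
  have hEnil : Group.IsNilpotent E := by
    have h1 := Cfsg.Agent.S0069.result H E hE hHbot hEbot hfpf
    obtain ⟨w, hw⟩ := (Subgroup.ne_bot_iff_exists_ne_one).1 h1
    have hw1 : ((w : E) : G) ≠ 1 := fun h => hw (Subtype.ext (Subtype.ext h))
    refine nilpotent_of_le ?_ (hCN _ hw1)
    intro y hy
    rw [mem_centralizer_singleton_iff]
    exact congrArg Subtype.val (Subgroup.mem_center_iff.1 w.2 ⟨y, hy⟩)
  refine ⟨hHbot, hHtop, ⟨E, hE, (H1.Frob.isFrobeniusComplement_iff H E hE hHbot hEbot).2 hfpf, hfpf, hEbot, hEnil⟩, ?_⟩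
  -- `G/H` is an image of `E`
  have hsurj : Function.Surjective ((QuotientGroup.mk' H).comp E.subtype) := by
    intro y
    obtain ⟨g, rfl⟩ := QuotientGroup.mk'_surjective H y
    obtain ⟨⟨h, e⟩, he⟩ := hE.surjective g
    refine ⟨e, ?_⟩
    have he' : (h : G) * (e : G) = g := he
    rw [← he', map_mul]
    have h2 : (QuotientGroup.mk' H) (h : G) = 1 := (QuotientGroup.eq_one_iff _).2 h.2
    rw [h2, one_mul]; rfl
  exact Group.nilpotent_of_surjective _ hsurj

end

end H30.CN
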