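import Mathlib
import Cfsg.Agent.Lib.Lead.BSBase
import Cfsg.Agent.Lib.H30.BSCent
import Cfsg.Agent.Lib.H30.BSGal

/-!
T-BS, module M13 (assembly): by induction, `W = 1` implies `|Q| = |E|` or `|Q| = |E|²`; the modules M0, M7A, M8, M9, M11
and the Zassenhaus case are taken as hypotheses.
-/

set_option autoImplicit false
set_option linter.unusedSimpArgs false
set_option linter.unusedVariables false

namespace H30.BS

open MulAction H6.RankOne Lead.BS

universe u v

/-- the inputs of the induction -/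
structure Inputs : Prop where
  /-- M0 -/
  m0 : ∀ (G : Type u) (Ω : Type v) [Group G] [Finite G] [MulAction G Ω] (a : Ω) (t : G)
      (Q : Subgroup G) [FaithfulSMul G Ω], Cfsg.IsRankOneSetup G Ω a t Q →
      (∃ x y : G, x ≠ 1 ∧ y ≠ 1 ∧ x ≠ y ∧ x * x = 1 ∧ y * y = 1 ∧ x * y = y * x) →
      ∃ (E K V W : Subgroup G) (s r : G), Ctx G Ω a t Q E K V W s r
  /-- M7A -/
  m7 : ∀ (G : Type u) (Ω : Type v) [Group G] [Finite G] [MulAction G Ω] (a : Ω) (t : G)
      (Q E K V W : Subgroup G) (s r : G), Ctx G Ω a t Q E K V W s r → IsPGroup 2 Q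
  /-- M8 -/
  m8 : ∀ (G : Type u) (Ω : Type v) [Group G] [Finite G] [MulAction G Ω] (a : Ω) (t : G)
      (Q E K V W : Subgroup G) (s r : G), Ctx G Ω a t Q E K V W s r → ∀ p : ℕ, p.Prime → p ∣ W.relIndex V →
      ¬ p ∣ Nat.card Q + 1 → ∃ N : Subgroup G, N.Normal ∧ Odd N.index ∧ N ≠ ⊤
  /-- M9 -/
  m9 : ∀ (G : Type u) (Ω : Type v) [Group G] [Finite G] [MulAction G Ω] (a : Ω) (t : G)
      (Q E K V W : Subgroup G) (s r : G), Ctx G Ω a t Q E K V W s r → ∀ (N : Subgroup G), N.Normal → Odd N.index →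
      Q ≤ N ∧ ∃ (t₁ : N) (E' K' V' W' : Subgroup N) (s' r' : N),
      Ctx N Ω a t₁ (Q.subgroupOf N) E' K' V' W' s' r' ∧ E'.map N.subtype = E ∧ W'.map N.subtype = W ⊓ N
  /-- order of the Sylow 2-subgroup (N) -/
  mN : ∀ (G : Type u) (Ω : Type v) [Group G] [Finite G] [MulAction G Ω] (a : Ω) (t : G)
      (Q E K V W : Subgroup G) (s r : G), Ctx G Ω a t Q E K V W s r → W = ⊥ → IsPGroup 2 Q → ∀ y ∈ V,
      (orderOf y).Prime → Nat.card Q = Nat.card ↥(Q ⊓ Subgroup.centralizer {y}) ^ orderOf y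
  /-- (S) -/
  mS : ∀ (G : Type u) (Ω : Type v) [Group G] [Finite G] [MulAction G Ω] (a : Ω) (t : G)
      (Q E K V W : Subgroup G) (s r : G), Ctx G Ω a t Q E K V W s r → IsPGroup 2 Q →
      ∃ m : ℕ, Nat.card Q = Nat.card E ^ m
  /-- Zassenhaus groups -/
  mZ : ∀ (G : Type u) (Ω : Type v) [Group G] [Finite G] [MulAction G Ω] (a : Ω) (t : G)
      (Q E K V W : Subgroup G) (s r : G), Ctx G Ω a t Q E K V W s r → V = ⊥ →
      Nat.card Q = Nat.card E ∨ Nat.card Q = Nat.card E ^ 2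
  /-- M11 -/
  m11 : ∀ (G : Type u) (Ω : Type v) [Group G] [Finite G] [MulAction G Ω] (a : Ω) (t : G)
      (Q E K V W : Subgroup G) (s r : G), Ctx G Ω a t Q E K V W s r → IsPGroup 2 Q → W = ⊥ →
      ∀ p : ℕ, p.Prime → Nat.card E = 2 ^ p → Nat.card V = p → p ∣ Nat.card Q + 1 →
      (∀ N : Subgroup G, N.Normal → Odd N.index → N = ⊤) →
      ∀ m : ℕ, Nat.card Q = Nat.card E ^ m → m ≤ 2

/-- The inductive statement P(G) -/
theorem card_Q_of_W_bot (I : Inputs.{u, v}) : ∀ (n : ℕ) (G : Type u) (Ω : Type v) [Group G] [Finite G] [MulAction G Ω]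
    (a : Ω) (t : G) (Q E K V W : Subgroup G) (s r : G), Ctx G Ω a t Q E K V W s r → W = ⊥ → Nat.card G = n →
    Nat.card Q = Nat.card E ∨ Nat.card Q = Nat.card E ^ 2 := by
  intro n
  induction n using Nat.strong_induction_on with
  | _ n ih =>
  intro G Ω _ _ _ a t Q E K V W s r c hW hn
  -- no normal subgroup of odd index
  by_cases hno : ∀ N : Subgroup G, N.Normal → Odd N.index → N = ⊤
  swap
  · push Not at hno
    obtain ⟨N, hN, hNo, hNt⟩ := hno
    obtain ⟨hQN, t₁, E', K', V', W', s', r', c', hE', hW'⟩ := I.m9 G Ω a t Q E K V W s r c N hN hNo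
    have h1 : Nat.card N < n := by
      rw [← hn]
      refine lt_of_le_of_ne (Subgroup.card_le_card_group N) fun h => hNt (Subgroup.card_eq_iff_eq_top N |>.1 h)
    have h2 : W' = ⊥ := by
      rw [hW, bot_inf_eq] at hW'
      exact (Subgroup.map_eq_bot_iff_of_injective _ N.subtype_injective).1 hW'
    have h3 := ih _ h1 N Ω a t₁ (Q.subgroupOf N) E' K' V' W' s' r' c' h2 rfl
    have h4 : Nat.card (Q.subgroupOf N) = Nat.card Q := Nat.card_congr (Subgroup.subgroupOfEquivOfLe hQN).toEquiv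
    have h5 : Nat.card E' = Nat.card E := by
      rw [← hE', Subgroup.card_map_of_injective N.subtype_injective]
    rwa [h4, h5] at h3
  -- the Zassenhaus case
  by_cases hV : V = ⊥
  · exact I.mZ G Ω a t Q E K V W s r c hV
  have hQ2 := I.m7 G Ω a t Q E K V W s r c
  obtain ⟨m, hm⟩ := I.mS G Ω a t Q E K V W s r c hQ2
  have hE1 := one_lt_card_E c
  have hm0 : m ≠ 0 := by
    rintro rfl
    rw [pow_zero] at hm
    have h1 : Nat.card E ≤ Nat.card Q := Subgroup.card_le_of_le c.E_le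
    omega
  suffices hm2 : m ≤ 2 by
    have : m = 1 ∨ m = 2 := by omega
    rcases this with rfl | rfl
    · left; rw [hm, pow_one]
    · right; exact hm
  -- an element of prime order of `V`
  obtain ⟨p, hp, hpV⟩ : ∃ p, p.Prime ∧ p ∣ Nat.card V := by
    refine Nat.exists_prime_and_dvd fun h => hV ?_
    exact Subgroup.card_eq_one.1 h
  have := Fact.mk hp
  obtain ⟨⟨y, hy⟩, hyp⟩ := exists_prime_orderOf_dvd_card' (G := V) p hpV
  rw [Subgroup.orderOf_mk] at hyp
  have hy1 : y ≠ 1 := by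
    rintro rfl
    rw [orderOf_one] at hyp
    exact hp.one_lt.ne hyp
  have hq := zpowers_pow c hW hy
  rw [hyp] at hq
  have hQy := I.mN G Ω a t Q E K V W s r c hW hQ2 y hy (hyp ▸ hp)
  rw [hyp] at hQy
  set q₀ := Nat.card ↥(E ⊓ Subgroup.centralizer {y}) with hq₀
  have hq₀pos : 0 < q₀ := Nat.card_pos
  have hQ₀ : Nat.card ↥(Q ⊓ Subgroup.centralizer {y}) = q₀ ^ m := by
    have h1 : Nat.card ↥(Q ⊓ Subgroup.centralizer {y}) ^ p = (q₀ ^ m) ^ p := by
      rw [← hQy, hm, hq, ← pow_mul, ← pow_mul, mul_comm]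
    exact Nat.pow_left_injective hp.ne_zero h1
  have hq₀2 : ∃ j, q₀ = 2 ^ j := by
    obtain ⟨n, -, hn⟩ := c.card_E
    have h1 : q₀ ∣ 2 ^ n := by
      rw [← hn]
      exact Subgroup.card_dvd_of_le inf_le_left
    obtain ⟨j, -, hj⟩ := (Nat.dvd_prime_pow Nat.prime_two).1 h1
    exact ⟨j, hj⟩
  obtain ⟨j, hj⟩ := hq₀2
  have hj0 : j ≠ 0 := by
    rintro rfl
    rw [pow_zero] at hj
    rw [hj, one_pow] at hq
    omega
  have hcent : Subgroup.centralizer ((Subgroup.zpowers y : Subgroup G) : Set G) = Subgroup.centralizer {y} := by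
    rw [← Subgroup.centralizer_closure {y}, Subgroup.zpowers_eq_closure]
  rcases Nat.lt_or_ge j 2 with hj2 | hj2
  · -- `q₀ = 2`
    have hj1 : j = 1 := by omega
    rw [hj1, pow_one] at hj
    have hVy := V_eq_zpowers c hW hy hj
    have hVp : Nat.card V = p := by rw [hVy, Nat.card_zpowers, hyp]
    have hpΩ : p ∣ Nat.card Q + 1 := by
      by_contra hnd
      obtain ⟨N, h1, h2, h3⟩ := I.m8 G Ω a t Q E K V W s r c p hp (by
        rw [hW, Subgroup.relIndex_bot_left, hVp]) hnd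
      exact h3 (hno N h1 h2)
    exact I.m11 G Ω a t Q E K V W s r c hQ2 hW p hp (by rw [hq, hj]) hVp hpΩ hno m hm
  · -- `q₀ ≥ 4`
    have hX : Subgroup.zpowers y ≤ V := Subgroup.zpowers_le.2 hy
    obtain ⟨x, hx, hx1, hxs⟩ : ∃ x ∈ E ⊓ Subgroup.centralizer {y}, x ≠ 1 ∧ x ≠ s := by
      classical
      by_contra hne
      push Not at hne
      have h1 : Nat.card ↥(E ⊓ Subgroup.centralizer {y}) ≤ 2 := by
        have : Fintype ↥(E ⊓ Subgroup.centralizer {y}) := Fintype.ofFinite _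
        rw [Nat.card_eq_fintype_card]
        have hs : s ∈ E ⊓ Subgroup.centralizer {y} := ⟨c.s_mem, Subgroup.mem_centralizer_singleton_iff.2
          ((c.V_mem' y).1 hy).2⟩
        have h2 : (Finset.univ : Finset ↥(E ⊓ Subgroup.centralizer {y})) ⊆ {1, ⟨s, hs⟩} := by
          intro x _
          rw [Finset.mem_insert, Finset.mem_singleton]
          by_cases h3 : (x : G) = 1
          · left; exact Subtype.ext h3
          · right; exact Subtype.ext (hne x x.2 h3)
        exact (Finset.card_le_card h2).trans Finset.card_le_two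
      have h2 : 2 ^ 2 ≤ 2 ^ j := Nat.pow_le_pow_right (by norm_num) hj2
      omega
    have hzc : ∀ e : G, e ∈ Subgroup.centralizer {y} → ∀ z ∈ Subgroup.zpowers y, z * e = e * z := by
      intro e he z hz
      rw [← hcent] at he
      exact Subgroup.mem_centralizer_iff.1 he z hz
    obtain ⟨G', Ω', _, _, _, a', t', Q', E', K', V', W', s', r', φ, ι, hlt, c', h⟩ := exists_cent_ctx I.m0 c
      (Subgroup.zpowers y) hX (by rwa [Ne, Subgroup.zpowers_eq_bot])
      ⟨x, hx.1, s, c.s_mem, hx1, c.s_ne, hxs, hzc x hx.2, hzc s (Subgroup.mem_centralizer_singleton_iff.2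
          ((c.V_mem' y).1 hy).2)⟩
    have hcQ : Nat.card Q' = q₀ ^ m := by rw [h.card_Q c, hcent, hQ₀]
    have hcE : Nat.card E' = q₀ := by rw [h.card_E c c', hcent]
    by_cases hW' : W' = ⊥
    · have h1 := ih _ (hn ▸ hlt) G' Ω' a' t' Q' E' K' V' W' s' r' c' hW' rfl
      rw [hcQ, hcE] at h1
      have h2 : 1 < q₀ := by rw [hj]; exact Nat.one_lt_two_pow hj0
      rcases h1 with h1 | h1
      · have h3 : q₀ ^ m = q₀ ^ 1 := by rw [pow_one]; exact h1
        have := Nat.pow_right_injective h2 h3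
        omega
      · have := Nat.pow_right_injective h2 h1
        omega
    · exfalso
      obtain ⟨⟨w', hw'⟩, hw1⟩ := Subgroup.ne_bot_iff_exists_ne_one.1 hW'
      apply hw1
      apply Subtype.ext
      show w' = 1
      obtain ⟨w, hwV, hwE, rfl⟩ := (h.W_map c c' w').1 hw'
      have h1 : (w : G) ∈ Subgroup.zpowers y := by
        refine mem_zpowers_of_cent c hW hy hwV fun e he hye => hwE e he ?_
        rw [hcent]
        exact Subgroup.mem_centralizer_singleton_iff.2 hye.symm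
      rw [h.ker]
      intro b hb
      exact hb w h1

end H30.BS
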