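import Mathlib
import Cfsg.Prelude.Def_Local
import Cfsg.Prelude.Def_OddOrderLocal
import Cfsg.Agent.Lib.H27.Sig
import Cfsg.Agent.Lib.H27.Baer
import Cfsg.Agent.Lib.H59.PCons
import Cfsg.Agent.Lib.H26.TransferPow
import Cfsg.Agent.Lib.H28.RelCore
import Cfsg.Agent.Lib.H28.Rank

set_option autoImplicit false
set_option linter.unusedSectionVars false

/-! The Thompson transitivity theorem when all `p`-locals are `p`-constrained (S1480). -/

namespace H30.PTrans

open Cfsg Subgroup H1.Coprime H1.Coprime2 H27.GenSub H27.Sig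
open scoped Pointwise commutatorElement

section trans
variable {G : Type*} [Group G] [Finite G] {p : ℕ} [hp : Fact p.Prime]

/-- maximal `E`-invariant `q`-subgroups -/
def IsM (E : Subgroup G) (q : ℕ) (Q : Subgroup G) : Prop :=
  IsPGroup q Q ∧ E ≤ normalizer (Q : Set G) ∧
    ∀ R : Subgroup G, IsPGroup q R → E ≤ normalizer (R : Set G) → Q ≤ R → R = Q

theorem exists_isM_ge {E : Subgroup G} {q : ℕ} {Q : Subgroup G}
    (hq : IsPGroup q Q) (hQ : E ≤ normalizer (Q : Set G)) : ∃ R, IsM E q R ∧ Q ≤ R := by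
  obtain ⟨R, ⟨h1, h2, h3⟩, hmax⟩ := (Set.toFinite {R : Subgroup G | IsPGroup q R ∧
    E ≤ normalizer (R : Set G) ∧ Q ≤ R}).exists_maximal ⟨Q, hq, hQ, le_rfl⟩
  exact ⟨R, ⟨h1, h2, fun S hSq hSE hRS => le_antisymm (hmax ⟨hSq, hSE, h3.trans hRS⟩ hRS) hRS⟩, h3⟩

theorem le_normalizer_smul {E Q : Subgroup G} (hQ : E ≤ normalizer (Q : Set G)) {c : G}
    (hc : c ∈ centralizer (E : Set G)) : E ≤ normalizer ((MulAut.conj c • Q : Subgroup G) : Set G) := by
  apply le_normalizer_of_conj_mem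
  intro e he x hx
  rw [Subgroup.mem_pointwise_smul_iff_inv_smul_mem] at hx ⊢
  have h1 : e * c = c * e := mem_centralizer_iff.1 hc e he
  have h2 : (MulAut.conj c)⁻¹ • (e * x * e⁻¹) = e * ((MulAut.conj c)⁻¹ • x) * e⁻¹ := by
    simp only [← map_inv, MulAut.smul_def, MulAut.conj_apply, inv_inv]
    have h3 : c⁻¹ * e = e * c⁻¹ := by
      rw [inv_mul_eq_iff_eq_mul, ← mul_assoc, ← h1, mul_assoc, mul_inv_cancel, mul_one]
    have h4 : e⁻¹ * c = c * e⁻¹ := by
      rw [inv_mul_eq_iff_eq_mul, ← mul_assoc, h1, mul_assoc, mul_inv_cancel, mul_one]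
    calc c⁻¹ * (e * x * e⁻¹) * c = (c⁻¹ * e) * x * (e⁻¹ * c) := by group
      _ = (e * c⁻¹) * x * (c * e⁻¹) := by rw [h3, h4]
      _ = e * (c⁻¹ * x * c) * e⁻¹ := by group
  rw [h2]
  exact conj_mem_of_le_normalizer hQ he hx

theorem IsM.conj {E : Subgroup G} {q : ℕ} {Q : Subgroup G}
    (hQ : IsM E q Q) {c : G} (hc : c ∈ centralizer (E : Set G)) : IsM E q (MulAut.conj c • Q) := by
  refine ⟨hQ.1.map _, le_normalizer_smul hQ.2.1 hc, fun R hRq hRE hle => ?_⟩
  have h1 := le_normalizer_smul hRE (inv_mem hc)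
  have h2 : Q ≤ MulAut.conj c⁻¹ • R := by
    have := Subgroup.pointwise_smul_le_pointwise_smul_iff (a := MulAut.conj c⁻¹).mpr hle
    rwa [← H1.SZ.conj_mul_smul, inv_mul_cancel, map_one, one_smul] at this
  have h3 : MulAut.conj c⁻¹ • R = Q := hQ.2.2 _ (hRq.map _) h1 h2
  rw [← h3, ← H1.SZ.conj_mul_smul, mul_inv_cancel, map_one, one_smul]

theorem transitivity {E A K0 : Subgroup G} (hEp : IsPGroup p E) (hEc : ∀ a ∈ E, ∀ b ∈ E, a * b = b * a)
    (hAE : A ≤ E) (hA : IsElementaryAbelian p A) (hA3 : p ^ 3 ≤ Nat.card A)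
    (hKE : K0 ≤ centralizer (E : Set G))
    (hK0 : ∀ L : Subgroup G, E ≤ normalizer (L : Set G) → ¬ p ∣ Nat.card L → L ⊓ centralizer (E : Set G) ≤ K0)
    (q : ℕ) [hq : Fact q.Prime] (hqp : q ≠ p)
    (hθ : ∀ b ∈ A, b ≠ 1 → ∃ L : Subgroup G, ¬ p ∣ Nat.card L ∧ E ≤ normalizer (L : Set G) ∧
      ∀ S : Subgroup G, IsPGroup q S → E ≤ normalizer (S : Set G) → S ≤ centralizer {b} → S ≤ L) (n : ℕ) :
    ∀ Q₁ Q₂ : Subgroup G, IsM E q Q₁ → IsM E q Q₂ →
      Nat.card G - Nat.card (Q₁ ⊓ Q₂ : Subgroup G) = n →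
      ∃ c ∈ K0, MulAut.conj c • Q₁ = Q₂ := by
  induction n using Nat.strong_induction_on with
  | _ n ih =>
  intro Q₁ Q₂ h1 h2 hn
  have key : ∀ R₁ R₂ : Subgroup G, IsM E q R₁ → IsM E q R₂ →
      ∀ D : Subgroup G, D ≤ R₁ ⊓ R₂ → Nat.card (Q₁ ⊓ Q₂ : Subgroup G) < Nat.card D →
      ∃ c ∈ K0, MulAut.conj c • R₁ = R₂ := by
    intro R₁ R₂ hR1 hR2 D hD hDc
    apply ih (Nat.card G - Nat.card (R₁ ⊓ R₂ : Subgroup G)) _ R₁ R₂ hR1 hR2 rfl
    have h3 : Nat.card D ≤ Nat.card (R₁ ⊓ R₂ : Subgroup G) :=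
      Nat.le_of_dvd Nat.card_pos (Subgroup.card_dvd_of_le hD)
    have h4 : Nat.card (R₁ ⊓ R₂ : Subgroup G) ≤ Nat.card G :=
      Subgroup.card_le_card_group _
    omega
  set D := Q₁ ⊓ Q₂ with hD
  by_cases hQD1 : Q₁ ≤ D
  · have h3 : Q₁ ≤ Q₂ := hQD1.trans inf_le_right
    have h4 := h1.2.2 Q₂ h2.1 h2.2.1 h3
    exact ⟨1, one_mem _, by rw [map_one, one_smul, h4]⟩
  by_cases hQD2 : Q₂ ≤ D
  · have h3 : Q₂ ≤ Q₁ := hQD2.trans inf_le_left
    have h4 := h2.2.2 Q₁ h1.1 h1.2.1 h3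
    exact ⟨1, one_mem _, by rw [map_one, one_smul, h4]⟩
  have hN1 := exists_lt_normalizer h1.1 (inf_le_left : D ≤ Q₁) hQD1
  have hN2 := exists_lt_normalizer h2.1 (inf_le_right : D ≤ Q₂) hQD2
  have hDE : E ≤ normalizer (D : Set G) := le_normalizer_inf h1.2.1 h2.2.1
  have hDq : IsPGroup q D := h1.1.to_le inf_le_left
  have hNDE := le_normalizer_normalizer hDE
  have hpQ : ∀ Q : Subgroup G, IsPGroup q Q → ¬ p ∣ Nat.card Q := by
    intro Q hQ hd
    obtain ⟨k, hk⟩ := IsPGroup.iff_card.1 hQ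
    rw [hk] at hd
    exact hqp ((Nat.prime_dvd_prime_iff_eq hp.out hq.out).1 (hp.out.dvd_of_dvd_pow hd)).symm
  have hb : ∀ Q : Subgroup G, IsM E q Q → ¬ Q ⊓ normalizer (D : Set G) ≤ D →
      ∃ B ≤ A, B.relIndex A ≤ p ∧
        ¬ (Q ⊓ normalizer (D : Set G)) ⊓ centralizer (B : Set G) ≤ D := by
    intro Q hQ hQD
    by_contra hcon
    push Not at hcon
    apply hQD
    refine le_of_hyperplanes p A _ _ hA (hAE.trans (le_normalizer_inf hQ.2.1 hNDE))
      (hpQ _ (hQ.1.to_le inf_le_left)) hcon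
  obtain ⟨B₁, hB1, hBi1, hBn1⟩ := hb Q₁ h1 hN1
  obtain ⟨B₂, hB2, hBi2, hBn2⟩ := hb Q₂ h2 hN2
  obtain ⟨b, hb1, hb2, hbne⟩ := H27.ElAb.inf_ne_bot hA hA3 hB1 hB2 hBi1 hBi2
  have hbA : b ∈ A := hB1 hb1
  obtain ⟨L, hLp, hLE, hL⟩ := hθ b hbA hbne
  set K := L ⊓ normalizer (D : Set G) with hK
  have hKE' : E ≤ normalizer (K : Set G) := le_normalizer_inf hLE hNDE
  have hKp : ¬ p ∣ Nat.card K := fun h => hLp (h.trans (Subgroup.card_dvd_of_le inf_le_left))
  have hEsol : Group.IsSolvable E := isSolvable_of_isPGroup hEp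
  have hKcop : (Nat.card E).Coprime (Nat.card K) := coprime_of_isPGroup hEp hKp
  -- the subgroups `S i`
  have hS : ∀ Q : Subgroup G, IsM E q Q → ∀ B : Subgroup G, b ∈ B →
      ¬ (Q ⊓ normalizer (D : Set G)) ⊓ centralizer (B : Set G) ≤ D →
      ∃ T, IsSylIn q K T ∧ E ≤ normalizer (T : Set G) ∧ ¬ Q ⊓ T ≤ D := by
    intro Q hQ B hbB hBn
    set S := (Q ⊓ normalizer (D : Set G)) ⊓ centralizer {b} with hSdef
    have hbcent : E ≤ normalizer ((centralizer {b} : Subgroup G) : Set G) := by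
      refine le_trans ?_ Subgroup.le_normalizer
      intro e he
      rw [mem_centralizer_singleton_iff]
      exact hEc e he b (hAE hbA)
    have hSA : E ≤ normalizer (S : Set G) :=
      le_normalizer_inf (le_normalizer_inf hQ.2.1 hNDE) hbcent
    have hSq : IsPGroup q S := hQ.1.to_le (inf_le_left.trans inf_le_left)
    have hSK : S ≤ K := le_inf (hL S hSq hSA inf_le_right) (inf_le_left.trans inf_le_right)
    obtain ⟨T, hT, hST, hTA⟩ := exists_invariant_sylow_ge E K hKE' hKcop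
      (Or.inl hEsol) q S hSK hSq hSA
    refine ⟨T, hT, hTA, fun hle => hBn ?_⟩
    intro x hx
    have hxS : x ∈ S := ⟨hx.1, Subgroup.centralizer_le (by simpa using hbB) hx.2⟩
    exact hle ⟨hxS.1.1, hST hxS⟩
  obtain ⟨T₁, hT1, hTA1, hTn1⟩ := hS Q₁ h1 B₁ hb1 hBn1
  obtain ⟨T₂, hT2, hTA2, hTn2⟩ := hS Q₂ h2 B₂ hb2 hBn2
  obtain ⟨c, hc, hcT⟩ := conj_invariant_sylow E K hKE' hKcop (Or.inl hEsol) q T₁ T₂
    hT1 hT2 hTA1 hTA2
  have hcI : c ∈ K0 := hK0 K hKE' hKp hc
  have hcD : c ∈ normalizer (D : Set G) := hc.1.2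
  -- R₁ = T₁ ⊔ D
  have hTD : T₁ ≤ normalizer (D : Set G) := hT1.1.trans inf_le_right
  have hRfam : E ≤ normalizer ((T₁ ⊔ D : Subgroup G) : Set G) := le_normalizer_sup hTA1 hDE
  have hRq : IsPGroup q (T₁ ⊔ D : Subgroup G) :=
    IsPGroup.to_sup_of_normal_right' hT1.isPGroup hDq hTD
  obtain ⟨R, hR, hRle⟩ := exists_isM_ge hRq hRfam
  have hcard : ∀ Q T : Subgroup G, D ≤ Q → ¬ Q ⊓ T ≤ D →
      Nat.card D < Nat.card (Q ⊓ T ⊔ D : Subgroup G) := by
    intro Q T _ hn
    have hlt : D < Q ⊓ T ⊔ D := lt_of_le_of_ne le_sup_right fun h => hn (h ▸ le_sup_left)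
    exact lt_of_le_of_ne (Nat.le_of_dvd Nat.card_pos (Subgroup.card_dvd_of_le hlt.le)) fun h =>
      hlt.ne (Subgroup.eq_of_le_of_card_ge hlt.le h.ge)
  obtain ⟨c1, hc1, e1⟩ := key Q₁ R h1 hR (Q₁ ⊓ T₁ ⊔ D)
    (le_inf (sup_le inf_le_left inf_le_left)
      ((sup_le_sup_right inf_le_right _).trans hRle)) (hcard _ _ inf_le_left hTn1)
  have hR2 := hR.conj (hKE hcI)
  have hT2R : T₂ ⊔ D ≤ MulAut.conj c • R := by
    have h3 := Subgroup.pointwise_smul_le_pointwise_smul_iff (a := MulAut.conj c).mpr hRle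
    have h4 : MulAut.conj c • (T₁ ⊔ D) = T₂ ⊔ D := by
      rw [Subgroup.smul_sup, hcT, H1.SZ.conj_smul_eq_of_mem_normalizer hcD]
    rwa [h4] at h3
  obtain ⟨c2, hc2, e2⟩ := key (MulAut.conj c • R) Q₂ hR2 h2 (Q₂ ⊓ T₂ ⊔ D)
    (le_inf ((sup_le_sup_right inf_le_right _).trans hT2R)
      (sup_le inf_le_left inf_le_right)) (hcard _ _ inf_le_right hTn2)
  refine ⟨c2 * c * c1, mul_mem (mul_mem hc2 hcI) hc1, ?_⟩
  rw [H1.SZ.conj_mul_smul, H1.SZ.conj_mul_smul, e1, e2]

end trans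

section key
variable {N : Type*} [Group N] [Finite N] {p : ℕ} [hp : Fact p.Prime]

theorem inf_eq_bot_of_coprime {P Q : Subgroup N} (hP : IsPGroup p P) (hQ : (Nat.card Q).Coprime p) : P ⊓ Q = ⊥ := by
  apply Disjoint.eq_bot
  apply Subgroup.disjoint_of_coprime_natCard
  obtain ⟨k, hk⟩ := IsPGroup.iff_card.1 hP
  rw [hk]
  exact (Nat.Coprime.pow_right k hQ).symm

/-- key lemma in characteristic `p` -/
theorem inv_trivial (hct : H59.CharP.CT p N) {E Q : Subgroup N} (hEp : IsPGroup p E)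
    (hEc : ∀ a ∈ E, ∀ b ∈ E, a * b = b * a)
    (hEfull : ∀ x ∈ centralizer (E : Set N), IsPGroup p (zpowers x) → x ∈ E)
    (h2 : p = 2 → ∀ S : Subgroup N, IsPGroup p S → ⁅⁅S, S⁆, S⁆ = ⊥)
    (hQ : (Nat.card Q).Coprime p) (hEQ : E ≤ normalizer (Q : Set N)) : Q = ⊥ := by
  set T : Subgroup N := pCore p N with hT
  have hTp : IsPGroup p T := H59.CharP.isPGroup_pCore N
  have hTn : T.Normal := H1.Cores.pCore_normal p
  have hTQ : T ⊓ Q = ⊥ := inf_eq_bot_of_coprime hTp hQ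
  have hCT : centralizer (T : Set N) ≤ T := hct.centralizer_pCore_le
  have hnT : ∀ X : Subgroup N, X ≤ normalizer (T : Set N) := fun X => by
    rw [normalizer_eq_top]; exact le_top
  suffices h : Q ≤ centralizer (T : Set N) by
    rw [eq_bot_iff, ← hTQ]
    exact le_inf (h.trans hCT) le_rfl
  -- `E ⊓ T` centralizes `Q`
  have h1 : E ⊓ T ≤ centralizer (Q : Set N) := by
    rw [← commutator_eq_bot_iff_le_centralizer, eq_bot_iff, ← hTQ, Subgroup.commutator_le]
    intro e he q hq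
    refine ⟨?_, ?_⟩
    · rw [commutatorElement_def, mul_assoc, mul_assoc]
      refine T.mul_mem he.2 ?_
      rw [← mul_assoc]
      exact hTn.conj_mem _ (T.inv_mem he.2) q
    · rw [commutatorElement_def]
      exact Q.mul_mem (conj_mem_of_le_normalizer hEQ he.1 hq) (Q.inv_mem hq)
  have h3 : T ⊓ centralizer (E : Set N) ≤ centralizer (Q : Set N) := by
    intro x hx
    refine h1 ⟨hEfull x hx.2 ?_, hx.1⟩
    exact hTp.to_le (zpowers_le.2 hx.1)
  by_cases hp2 : p = 2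
  · -- class at most two
    set S := T ⊔ E with hS
    have hSp : IsPGroup p S := by
      rw [hS, sup_comm]; exact IsPGroup.to_sup_of_normal_right' hEp hTp (hnT E)
    have h4 := h2 hp2 S hSp
    set Z := ⁅T, E⁆ with hZ
    have hZS : Z ≤ centralizer (S : Set N) := by
      rw [← commutator_eq_bot_iff_le_centralizer, eq_bot_iff, ← h4]
      exact commutator_mono (commutator_mono le_sup_left le_sup_right) le_rfl
    have hZT : Z ≤ T := commutator_le_left (hnT E)
    have hZE : Z ≤ centralizer (E : Set N) := hZS.trans (centralizer_le (le_sup_right : E ≤ S))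
    have hZT' : Z ≤ centralizer (T : Set N) := hZS.trans (centralizer_le (le_sup_left : T ≤ S))
    have hZQ : Z ≤ centralizer (Q : Set N) := (le_inf hZT hZE).trans h3
    -- `D = [E, Q]`
    set D := ⁅E, Q⁆ with hD
    have hDQ : D ≤ Q := commutator_le_right hEQ
    have hDZ : ∀ d ∈ D, ∀ z ∈ Z, d * z = z * d := fun d hd z hz =>
      mem_centralizer_iff.1 (hZQ hz) d (hDQ hd)
    have hDT : ∀ d ∈ D, ∀ t ∈ T, ∃ z ∈ Z, d * t * d⁻¹ = z * t := by
      intro d hd
      induction hd using Subgroup.closure_induction with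
      | mem x hx =>
        obtain ⟨e, he, q, hq, rfl⟩ := hx
        intro t ht
        have ht' : q⁻¹ * t * q ∈ T := by
          have := hTn.conj_mem t ht q⁻¹; rwa [inv_inv] at this
        have hz1 : ⁅e⁻¹, q⁻¹ * t * q⁆ ∈ Z := by
          rw [hZ, Subgroup.commutator_comm]
          exact commutator_mem_commutator (inv_mem he) ht'
        have hz2 : ⁅e, t⁆ ∈ Z := by
          rw [hZ, Subgroup.commutator_comm]
          exact commutator_mem_commutator he ht
        refine ⟨_, mul_mem hz1 hz2, ?_⟩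
        have e1 : q * ⁅e⁻¹, q⁻¹ * t * q⁆ = ⁅e⁻¹, q⁻¹ * t * q⁆ * q := mem_centralizer_iff.1 (hZQ hz1) q hq
        have e2 : e * ⁅e⁻¹, q⁻¹ * t * q⁆ = ⁅e⁻¹, q⁻¹ * t * q⁆ * e := mem_centralizer_iff.1 (hZE hz1) e he
        have e3 : ⁅e, q⁆ * t * ⁅e, q⁆⁻¹ = e * (q * ⁅e⁻¹, q⁻¹ * t * q⁆ * q⁻¹ * t) * e⁻¹ := by
          simp only [commutatorElement_def]; group
        rw [e3, e1]
        have e4 : e * (⁅e⁻¹, q⁻¹ * t * q⁆ * q * q⁻¹ * t) * e⁻¹ = (e * ⁅e⁻¹, q⁻¹ * t * q⁆) * t * e⁻¹ := by group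
        rw [e4, e2, commutatorElement_def e t]
        group
      | one => exact fun t _ => ⟨1, one_mem _, by group⟩
      | mul x y hx hy ihx ihy =>
        intro t ht
        obtain ⟨z1, hz1, e1⟩ := ihx t ht
        obtain ⟨z2, hz2, e2⟩ := ihy t ht
        refine ⟨z2 * z1, mul_mem hz2 hz1, ?_⟩
        have e3 : x * z2 = z2 * x := hDZ x hx z2 hz2
        calc x * y * t * (x * y)⁻¹ = x * (y * t * y⁻¹) * x⁻¹ := by group
          _ = (x * z2) * t * x⁻¹ := by rw [e2]; group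
          _ = z2 * (x * t * x⁻¹) := by rw [e3]; group
          _ = z2 * z1 * t := by rw [e1]; group
      | inv x hx ihx =>
        intro t ht
        obtain ⟨z1, hz1, e1⟩ := ihx t ht
        refine ⟨z1⁻¹, inv_mem hz1, ?_⟩
        have e3 : x * z1 = z1 * x := hDZ x hx z1 hz1
        have e5 : t = x⁻¹ * (z1 * t) * x := by rw [← e1]; group
        have e4 : x⁻¹ * z1 = z1 * x⁻¹ := by
          rw [inv_mul_eq_iff_eq_mul, ← mul_assoc, e3, mul_assoc, mul_inv_cancel, mul_one]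
        have e6 : t = z1 * (x⁻¹ * t * x) := by
          calc t = x⁻¹ * (z1 * t) * x := e5
            _ = (x⁻¹ * z1) * t * x := by group
            _ = z1 * (x⁻¹ * t * x) := by rw [e4]; group
        rw [inv_inv, eq_inv_mul_iff_mul_eq]
        exact e6.symm
    have hDcard : (Nat.card D).Coprime (Nat.card T) := by
      have h5 : (Nat.card Q).Coprime (Nat.card T) := by
        obtain ⟨k, hk⟩ := IsPGroup.iff_card.1 hTp
        rw [hk]; exact Nat.Coprime.pow_right k hQ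
      exact Nat.Coprime.coprime_dvd_left (Subgroup.card_dvd_of_le hDQ) h5
    have h5 : D ≤ centralizer (T : Set N) := by
      refine le_centralizer_of_series D T Z (hnT D) hDcard (Or.inr (isSolvable_of_isPGroup hTp)) ?_ ?_
      · rw [Subgroup.commutator_comm, Subgroup.commutator_le]
        intro d hd t ht
        obtain ⟨z, hz, e⟩ := hDT d hd t ht
        rw [commutatorElement_def, e, mul_inv_cancel_right]
        exact hz
      · rw [commutator_eq_bot_iff_le_centralizer]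
        exact hZQ.trans (centralizer_le hDQ)
    have h6 : D = ⊥ := by
      rw [eq_bot_iff, ← hTQ]
      exact le_inf (h5.trans hCT) hDQ
    have h7 : E ≤ centralizer (Q : Set N) := commutator_eq_bot_iff_le_centralizer.1 h6
    exact pq_lemma p E Q hEp hQ h7 _ T rfl hTp (hnT E) (hnT Q) h3
  · have h4 : ⁅T, Q⁆ = ⊥ :=
      H27.Baer.comm_of_fixed hp2 hTp hEp hQ (hnT E) (hnT Q) hEQ (fun x hx _ hxE => h3 ⟨hx, hxE⟩)
    rw [Subgroup.commutator_comm] at h4
    exact commutator_eq_bot_iff_le_centralizer.1 h4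

/-- `S ≤ S'` and `S'` of class at most two -/
theorem comm_eq_bot_mono {S S' : Subgroup N} (h : S ≤ S') (h1 : ⁅⁅S', S'⁆, S'⁆ = ⊥) : ⁅⁅S, S⁆, S⁆ = ⊥ := by
  rw [eq_bot_iff, ← h1]
  exact commutator_mono (commutator_mono h h) h

theorem inv_le_core (hN : IsPConstrained p N) {E Q : Subgroup N} (hEp : IsPGroup p E)
    (hEc : ∀ a ∈ E, ∀ b ∈ E, a * b = b * a)
    (hEfull : ∀ x ∈ centralizer (E : Set N), IsPGroup p (zpowers x) → x ∈ E)
    (h2 : p = 2 → ∀ S : Subgroup N, IsPGroup p S → ⁅⁅S, S⁆, S⁆ = ⊥)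
    (hQ : (Nat.card Q).Coprime p) (hEQ : E ≤ normalizer (Q : Set N)) : Q ≤ pPrimeCore p N := by
  set K := pPrimeCore p N with hK
  have hKc : (Nat.card K).Coprime p := H1.Cores.coprime_card_pPrimeCore p
  set π := QuotientGroup.mk' K with hπ
  have hπs : Function.Surjective π := QuotientGroup.mk'_surjective K
  have hker : π.ker = K := QuotientGroup.ker_mk' K
  suffices h : Q.map π = ⊥ by
    rw [Subgroup.map_eq_bot_iff, hker] at h
    exact h
  have hcopEK : (Nat.card E).Coprime (Nat.card K) := by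
    obtain ⟨k, hk⟩ := IsPGroup.iff_card.1 hEp
    rw [hk]
    exact Nat.Coprime.pow_left k hKc.symm
  refine inv_trivial (p := p) (E := E.map π) (H59.PCons.isPConstrained_iff.1 hN) (hEp.map _) ?_ ?_ ?_ ?_ ?_
  · rintro _ ⟨a, ha, rfl⟩ _ ⟨b, hb, rfl⟩
    rw [← map_mul, hEc a ha b hb, map_mul]
  · intro x' hx' hxp
    obtain ⟨x, rfl⟩ := hπs x'
    obtain ⟨c, hc, hcx⟩ := exists_fixed_in_coset E K (by rw [normalizer_eq_top]; exact le_top) hcopEK
      (Or.inl (isSolvable_of_isPGroup hEp)) x (by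
        intro a ha
        rw [← hker, MonoidHom.mem_ker]
        have h1 : π a * π x = π x * π a := mem_centralizer_iff.1 hx' _ ⟨a, ha, rfl⟩
        simp only [map_mul, map_inv]
        rw [mul_assoc (π x)⁻¹, h1]; group)
    have hcx' : π c = π x := by
      rw [← hker, MonoidHom.mem_ker, map_mul, map_inv, inv_mul_eq_one] at hcx
      exact hcx.symm
    obtain ⟨u, v, he, ⟨k, hk⟩, hv⟩ := H26.TransferPow.exists_pPart p c
    have h1 : c ^ u ∈ E := hEfull _ (pow_mem hc u) (IsPGroup.iff_card.2 ⟨k, by rw [Nat.card_zpowers, hk]⟩)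
    have h3 : π (c ^ v) = 1 := by
      obtain ⟨j, hj⟩ := (IsPGroup.iff_orderOf.mp hxp) ⟨π x ^ v, pow_mem (mem_zpowers _) v⟩
      rw [Subgroup.orderOf_mk, ← hcx', ← map_pow] at hj
      have h4 : orderOf (π (c ^ v)) ∣ orderOf (c ^ v) := orderOf_map_dvd _ _
      rw [hj] at h4
      rw [← orderOf_eq_one_iff, hj]
      have h5 : (p ^ j).Coprime (p ^ j) := Nat.Coprime.coprime_dvd_left h4 (Nat.Coprime.pow_right j hv)
      rwa [Nat.coprime_self] at h5
    rw [← hcx', he, map_mul, h3, mul_one]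
    exact ⟨_, h1, rfl⟩
  · intro hp2 S' hS'
    obtain ⟨P', hP'⟩ := hS'.exists_le_sylow
    obtain ⟨P, -, hP⟩ := H59.SylowQ.exists_sylow_map_eq π hπs P' ⊥ IsPGroup.of_bot (by rw [Subgroup.map_bot]; exact bot_le)
    apply comm_eq_bot_mono (S' := (P : Subgroup N).map π)
    · rw [hP]; exact hP'
    · rw [← Subgroup.map_commutator, ← Subgroup.map_commutator, h2 hp2 _ P.2, Subgroup.map_bot]
  · exact Nat.Coprime.coprime_dvd_left (Subgroup.card_map_dvd _ _) hQ
  · exact (Subgroup.map_mono hEQ).trans (Subgroup.le_normalizer_map _)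

theorem comm_eq_bot_of_sylow (h2 : ∀ S : Sylow p N, Group.IsNilpotent (S : Subgroup N) ∧ Group.nilpotencyClass (S : Subgroup N) ≤ 2)
    {S : Subgroup N} (hS : IsPGroup p S) : ⁅⁅S, S⁆, S⁆ = ⊥ := by
  obtain ⟨P, hP⟩ := hS.exists_le_sylow
  apply comm_eq_bot_mono hP
  have h3 := (h2 P).1
  have h4 := lowerCentralSeries_eq_bot_of_nilpotencyClass_le (S := (P : Subgroup N)) (h2 P).2
  exact h4

/-- elements of order prime to `p` in the centralizer of `E` -/
theorem coprime_le_piCoreOf {E : Subgroup N} (hEp : IsPGroup p E) (hEc : ∀ a ∈ E, ∀ b ∈ E, a * b = b * a)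
    (hEfull : ∀ x ∈ centralizer (E : Set N), IsPGroup p (zpowers x) → x ∈ E) {L : Subgroup N}
    (hLE : L ≤ centralizer (E : Set N)) (hL : ¬ p ∣ Nat.card L) :
    L ≤ piCoreOf (primesNotDvd p) (centralizer (E : Set N)) := by
  set C := centralizer (E : Set N) with hC
  have hEC : E ≤ C := fun e he => mem_centralizer_iff.2 fun x hx => hEc x hx e he
  set E' := E.subgroupOf C with hE'
  have hcen : ∀ e ∈ E', ∀ c : C, c * e = e * c := by
    intro e he c
    apply Subtype.ext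
    exact (mem_centralizer_iff.1 c.2 _ he).symm
  have hE'n : E'.Normal := ⟨fun e he c => by rw [hcen e he c, mul_inv_cancel_right]; exact he⟩
  have hE'p : IsPGroup p E' := hEp.comap_subtype
  have hsyl : ∀ P : Sylow p C, (P : Subgroup C) ≤ E' := by
    intro P x hx
    change (x : N) ∈ E
    refine hEfull x x.2 ?_
    have h1 : IsPGroup p (zpowers x) := P.2.to_le (zpowers_le.2 hx)
    have h2 : zpowers (x : N) = (zpowers x).map C.subtype := by
      rw [MonoidHom.map_zpowers]; rfl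
    rw [h2]
    exact h1.map _
  have hcop : (Nat.card E').Coprime E'.index := by
    obtain ⟨P⟩ : Nonempty (Sylow p C) := inferInstance
    have h1 : (P : Subgroup C) = E' := by
      apply le_antisymm (hsyl P)
      exact (P.3 hE'p (hsyl P)).le
    rw [← h1]
    exact P.card_coprime_index
  obtain ⟨H, hH⟩ := Subgroup.exists_right_complement'_of_coprime hcop
  have hHn : H.Normal := by
    constructor
    intro h hh c
    obtain ⟨⟨e, k⟩, hek⟩ := hH.2 c
    have hek' : (e : C) * (k : C) = c := hek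
    rw [← hek']
    have h1 : (e : C) * k * h * ((e : C) * k)⁻¹ = (k : C) * h * (k : C)⁻¹ := by
      have h2 := hcen e e.2 ((k : C) * h * (k : C)⁻¹)
      have h3 : (e : C) * k * h * ((e : C) * k)⁻¹ = (e : C) * (k * h * (k : C)⁻¹) * (e : C)⁻¹ := by
        simp only [mul_inv_rev, mul_assoc]
      rw [h3, ← h2, mul_inv_cancel_right]
    rw [h1]
    exact mul_mem (mul_mem k.2 hh) (inv_mem k.2)
  have hHidx : H.index = Nat.card E' := hH.index_eq_card
  have hHcard : (Nat.card H) = E'.index := (hH.symm.index_eq_card).symm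
  have hpH : ∀ r : ℕ, r.Prime → r ∣ Nat.card H → r ∈ primesNotDvd p := by
    intro r hr hd
    refine ⟨hr, fun hrp => ?_⟩
    have h1 : r = p := (Nat.prime_dvd_prime_iff_eq hr hp.out).1 hrp
    subst h1
    obtain ⟨P⟩ : Nonempty (Sylow r C) := inferInstance
    have h2 : (P : Subgroup C) = E' := le_antisymm (hsyl P) (P.3 hE'p (hsyl P)).le
    rw [hHcard, ← h2] at hd
    exact P.not_dvd_index hd
  intro x hx
  have hxC : x ∈ C := hLE hx
  refine ⟨⟨x, hxC⟩, ?_, rfl⟩
  have h1 : H ≤ piCore (primesNotDvd p) C := le_sSup ⟨hHn, hpH⟩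
  apply h1
  -- `x` of order prime to `p`
  rw [← QuotientGroup.eq_one_iff]
  have h3 : orderOf (QuotientGroup.mk' H (⟨x, hxC⟩ : C)) ∣ Nat.card L := by
    refine (orderOf_map_dvd _ _).trans ?_
    rw [Subgroup.orderOf_mk, ← Subgroup.orderOf_mk x hx]
    exact orderOf_dvd_natCard _
  have h4 : orderOf (QuotientGroup.mk' H (⟨x, hxC⟩ : C)) ∣ Nat.card E' := by
    rw [← hHidx]
    exact orderOf_dvd_natCard _
  obtain ⟨k, hk⟩ := IsPGroup.iff_card.1 hE'p
  rw [hk] at h4
  have h5 : (Nat.card L).Coprime (p ^ k) := Nat.Coprime.pow_right k ((Nat.Prime.coprime_iff_not_dvd hp.out).2 hL).symm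
  exact orderOf_eq_one_iff.1 (Nat.eq_one_of_dvd_coprimes h5 h3 h4)

end key

section main
variable {G : Type*} [Group G] [Finite G] {p : ℕ} [hp : Fact p.Prime]

/-- S1480 -/
theorem main (hloc : ∀ T : Subgroup G, IsPGroup p T → T ≠ ⊥ → IsPConstrained p ↥(Subgroup.normalizer (T : Set G)))
    (h2 : p = 2 → ∀ S : Sylow p G, Group.IsNilpotent (S : Subgroup G) ∧ Group.nilpotencyClass (S : Subgroup G) ≤ 2)
    (E : Subgroup G) (hEp : IsPGroup p E) (hEc : IsMulCommutative E) (hE3 : ¬ PRankLE p 2 E)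
    (hEfull : ∀ x ∈ Subgroup.centralizer (E : Set G), IsPGroup p (Subgroup.zpowers x) → x ∈ E)
    (q : ℕ) [hq : Fact q.Prime] (hqp : q ≠ p) (Q₁ : Subgroup G) (hQ₁ : Q₁ ∈ maxInvSubgroups ⊤ E {q})
    (Q₂ : Subgroup G) (hQ₂ : Q₂ ∈ maxInvSubgroups ⊤ E {q}) :
    ∃ k ∈ piCoreOf (primesNotDvd p) (Subgroup.centralizer (E : Set G)), Q₂ = Q₁.map (MulAut.conj k).toMonoidHom := by
  have hcomm : ∀ a ∈ E, ∀ b ∈ E, a * b = b * a := fun a ha b hb =>
    congrArg Subtype.val (hEc.is_comm.comm ⟨a, ha⟩ ⟨b, hb⟩)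
  have hEC : E ≤ centralizer (E : Set G) := fun e he => mem_centralizer_iff.2 fun x hx => hcomm x hx e he
  unfold PRankLE at hE3
  push Not at hE3
  obtain ⟨A0, hA0c, hA0p, hA0⟩ := hE3
  set A := A0.map E.subtype with hAdef
  have hAE : A ≤ E := Subgroup.map_subtype_le _
  have hA : IsElementaryAbelian p A := by
    rw [H28.Rank.elemAb_iff]
    refine ⟨fun a ha b hb => hcomm a (hAE ha) b (hAE hb), ?_⟩
    rintro _ ⟨a, ha, rfl⟩
    rw [← map_pow, hA0p a ha, map_one]
  have hAcard : Nat.card A = Nat.card A0 := Subgroup.card_map_of_injective E.subtype_injective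
  have hA3 : p ^ 3 ≤ Nat.card A := by
    obtain ⟨k, hk⟩ := IsPGroup.iff_card.1 (hEp.to_le hAE)
    rw [← hAcard, hk] at hA0
    rw [hk]
    have h1 : 2 < k := (Nat.pow_lt_pow_iff_right hp.out.one_lt).1 hA0
    exact Nat.pow_le_pow_right hp.out.pos h1
  have hq_iff : ∀ Q : Subgroup G, (∀ r : ℕ, r.Prime → r ∣ Nat.card Q → r ∈ ({q} : Set ℕ)) ↔ IsPGroup q Q := by
    intro Q
    constructor
    · intro h
      have h1 := Nat.eq_prime_pow_of_unique_prime_dvd (n := Nat.card Q) (p := q) Nat.card_pos.ne' (fun {r} hr hd => h r hr hd)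
      exact IsPGroup.of_card h1
    · intro h r hr hd
      obtain ⟨k, hk⟩ := IsPGroup.iff_card.1 h
      rw [hk] at hd
      exact (Nat.prime_dvd_prime_iff_eq hr hq.out).1 (hr.dvd_of_dvd_pow hd)
  have hM : ∀ Q : Subgroup G, Q ∈ maxInvSubgroups ⊤ E {q} → IsM E q Q := by
    intro Q hQ
    obtain ⟨⟨-, h3, h4⟩, h5⟩ := hQ
    refine ⟨(hq_iff Q).1 h3, h4, fun R hR hRE hle => h5 R ⟨le_top, (hq_iff R).2 hR, hRE⟩ hle⟩
  obtain ⟨c, hc, e⟩ := transitivity (p := p) (E := E) (A := A) (K0 := piCoreOf (primesNotDvd p) (centralizer (E : Set G)))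
    hEp hcomm hAE hA hA3 (map_subtype_le _)
    (fun L _ hL => coprime_le_piCoreOf hEp hcomm hEfull inf_le_right
      (fun h => hL (h.trans (Subgroup.card_dvd_of_le inf_le_left)))) q hqp (by
      intro b hb hb1
      set M := normalizer ((zpowers b : Subgroup G) : Set G) with hM'
      have hbE : b ∈ E := hAE hb
      have hcM : centralizer ({b} : Set G) ≤ M := by
        apply le_normalizer_of_conj_mem
        intro c hc x hx
        obtain ⟨k, rfl⟩ := mem_zpowers_iff.1 hx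
        have h3 : Commute c b := mem_centralizer_singleton_iff.1 hc
        have h4 : c * b ^ k * c⁻¹ = b ^ k := by
          rw [(h3.zpow_right k).eq, mul_inv_cancel_right]
        rw [h4]; exact hx
      have hEM : E ≤ M := by
        intro e he
        apply hcM
        rw [mem_centralizer_singleton_iff]
        exact hcomm e he b hbE
      have hbp : IsPGroup p (zpowers b) := hEp.to_le (zpowers_le.2 hbE)
      have hcons := hloc (zpowers b) hbp (by rw [Ne, zpowers_eq_bot]; exact hb1)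
      refine ⟨(pPrimeCore p M).map M.subtype, ?_, ?_, ?_⟩
      · rw [Subgroup.card_map_of_injective M.subtype_injective]
        exact (Nat.Prime.coprime_iff_not_dvd hp.out).1 (H1.Cores.coprime_card_pPrimeCore p).symm
      · refine hEM.trans ?_
        rw [← normal_subgroupOf_iff_le_normalizer (map_subtype_le _), ← comap_subtype,
          comap_map_eq_self_of_injective M.subtype_injective]
        infer_instance
      · intro S hSq hSE hSb
        have hSM : S ≤ M := hSb.trans hcM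
        have key : S.subgroupOf M ≤ pPrimeCore p M := by
          refine inv_le_core (p := p) (E := E.subgroupOf M) hcons hEp.comap_subtype ?_ ?_ ?_ ?_ ?_
          · intro a ha b hb
            exact Subtype.ext (hcomm a ha b hb)
          · intro x hx hxp
            change (x : G) ∈ E
            refine hEfull x ?_ ?_
            · rw [mem_centralizer_iff]
              intro e he
              exact congrArg Subtype.val (mem_centralizer_iff.1 hx ⟨e, hEM he⟩ he)
            · have h3 : zpowers (x : G) = (zpowers x).map M.subtype := by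
                rw [MonoidHom.map_zpowers]; rfl
              rw [h3]
              exact hxp.map _
          · intro hp2 S' hS'
            apply Subgroup.map_injective M.subtype_injective
            rw [Subgroup.map_bot, Subgroup.map_commutator, Subgroup.map_commutator]
            exact comm_eq_bot_of_sylow (h2 hp2) (hS'.map _)
          · rw [H1.SZ.card_subgroupOf_of_le hSM]
            obtain ⟨k, hk⟩ := IsPGroup.iff_card.1 hSq
            rw [hk]
            exact Nat.Coprime.pow_left k ((Nat.coprime_primes hq.out hp.out).2 hqp)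
          · intro e he
            rw [← H1.SZ.conj_smul_eq_iff, H1.SZ.conj_smul_subgroupOf_eq_iff hSM hSM, H1.SZ.conj_smul_eq_iff]
            exact hSE he
        intro x hx
        exact ⟨⟨x, hSM hx⟩, key hx, rfl⟩) _ Q₁ Q₂ (hM Q₁ hQ₁) (hM Q₂ hQ₂) rfl
  exact ⟨c, hc, e.symm⟩

end main

end H30.PTrans
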