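import Cfsg.Agent.Lib.H73.PyrDef

set_option autoImplicit false

/-!
S3930 (helper73), piece B-NA: elementary abelian group of order 8, bases, transvections,
transitivity on bases.
-/

namespace H30.PyrN

open Subgroup H73.Pyr

variable {G : Type*} [Group G]

/-- `E` is elementary abelian of order 8 -/
structure El (E : Subgroup G) : Prop where
  comm : ∀ a ∈ E, ∀ b ∈ E, a * b = b * a
  sq : ∀ a ∈ E, a * a = 1
  card : Nat.card E = 8

/-- `e, f, x` is a basis of `E` -/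
structure Bs (E : Subgroup G) (e f x : G) : Prop where
  he : e ∈ E
  hf : f ∈ E
  hx : x ∈ E
  e1 : e ≠ 1
  f1 : f ≠ 1
  fe : f ≠ e
  x1 : x ≠ 1
  xe : x ≠ e
  xf : x ≠ f
  xef : x ≠ e * f

/-- `c a = a` or `1` -/
def pw (c : Bool) (a : G) : G := cond c a 1

def sp (e f x : G) (a b c : Bool) : G := pw a e * (pw b f * pw c x)

theorem pw_mem {E : Subgroup G} {a : G} (h : a ∈ E) (c : Bool) : pw c a ∈ E := by
  cases c
  · exact one_mem E
  · exact h

section
variable {E : Subgroup G} {e f x : G}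

theorem El.of_big [Finite G] (hE : Big E) (h8 : Nat.card E = 8) : El E where
  comm := by
    intro a ha b hb
    have h1 : ∀ y ∈ E, y⁻¹ = y := fun y hy => inv_eq_of_mul_eq_one_right (hE.sq y hy)
    have h2 := h1 _ (E.mul_mem ha hb)
    rw [mul_inv_rev, h1 a ha, h1 b hb] at h2
    exact h2.symm
  sq := hE.sq
  card := h8

theorem El.inv (hE : El E) {a : G} (ha : a ∈ E) : a⁻¹ = a := inv_eq_of_mul_eq_one_right (hE.sq a ha)

theorem El.cancel (hE : El E) {a b : G} (ha : a ∈ E) : a * (a * b) = b := by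
  rw [← mul_assoc, hE.sq a ha, one_mul]

theorem El.lcomm (hE : El E) {a b c : G} (ha : a ∈ E) (hb : b ∈ E) : a * (b * c) = b * (a * c) := by
  rw [← mul_assoc, hE.comm a ha b hb, mul_assoc]

theorem El.pw_mul (hE : El E) {a : G} (ha : a ∈ E) (c d : Bool) : pw c a * pw d a = pw (c ^^ d) a := by
  cases c <;> cases d <;> simp [pw, hE.sq a ha]

theorem sp_mem (h : Bs E e f x) (a b c : Bool) : sp e f x a b c ∈ E :=
  E.mul_mem (pw_mem h.he a) (E.mul_mem (pw_mem h.hf b) (pw_mem h.hx c))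

theorem sp_mul (hE : El E) (h : Bs E e f x) (a b c a' b' c' : Bool) :
    sp e f x a b c * sp e f x a' b' c' = sp e f x (a ^^ a') (b ^^ b') (c ^^ c') := by
  have h1 := pw_mem h.he a
  have h2 := pw_mem h.hf b
  have h3 := pw_mem h.hx c
  have h1' := pw_mem h.he a'
  have h2' := pw_mem h.hf b'
  have h3' := pw_mem h.hx c'
  unfold sp
  rw [← hE.pw_mul h.he, ← hE.pw_mul h.hf, ← hE.pw_mul h.hx]
  calc pw a e * (pw b f * pw c x) * (pw a' e * (pw b' f * pw c' x))
      = pw a e * (pw b f * (pw c x * (pw a' e * (pw b' f * pw c' x)))) := by group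
    _ = pw a e * (pw a' e * (pw b f * (pw c x * (pw b' f * pw c' x)))) := by
        rw [hE.lcomm h3 h1', hE.lcomm h2 h1']
    _ = pw a e * (pw a' e * (pw b f * (pw b' f * (pw c x * pw c' x)))) := by
        rw [hE.lcomm h3 h2']
    _ = _ := by group

theorem sp_one (hE : El E) (h : Bs E e f x) {a b c : Bool} (h0 : sp e f x a b c = 1) :
    a = false ∧ b = false ∧ c = false := by
  have k1 := h.e1
  have k2 := h.f1
  have k3 := h.x1
  cases a <;> cases b <;> cases c <;> simp only [sp, pw, cond_true, cond_false, one_mul, mul_one] at h0 <;>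
    try exact ⟨rfl, rfl, rfl⟩
  · exact absurd h0 h.x1
  · exact absurd h0 h.f1
  · exfalso
    apply h.xf
    have := eq_inv_of_mul_eq_one_right h0
    rwa [hE.inv h.hf] at this
  · exact absurd h0 h.e1
  · exfalso
    apply h.xe
    have := eq_inv_of_mul_eq_one_right h0
    rwa [hE.inv h.he] at this
  · exfalso
    apply h.fe
    have := eq_inv_of_mul_eq_one_right h0
    rwa [hE.inv h.he] at this
  · exfalso
    apply h.xef
    rw [← mul_assoc] at h0
    have := eq_inv_of_mul_eq_one_right h0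
    rwa [hE.inv (E.mul_mem h.he h.hf)] at this

theorem sp_inj (hE : El E) (h : Bs E e f x) {a b c a' b' c' : Bool}
    (h0 : sp e f x a b c = sp e f x a' b' c') : a = a' ∧ b = b' ∧ c = c' := by
  have h1 : sp e f x (a ^^ a') (b ^^ b') (c ^^ c') = 1 := by
    rw [← sp_mul hE h, h0]
    exact hE.sq _ (sp_mem h _ _ _)
  obtain ⟨h2, h3, h4⟩ := sp_one hE h h1
  refine ⟨?_, ?_, ?_⟩
  · cases a <;> cases a' <;> first | rfl | exact absurd h2 (by decide)
  · cases b <;> cases b' <;> first | rfl | exact absurd h3 (by decide)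
  · cases c <;> cases c' <;> first | rfl | exact absurd h4 (by decide)

theorem span (hE : El E) (h : Bs E e f x) {y : G} (hy : y ∈ E) :
    ∃ a b c : Bool, y = sp e f x a b c := by
  haveI : Finite E := Nat.finite_of_card_ne_zero (by rw [hE.card]; norm_num)
  haveI := Fintype.ofFinite E
  let φ : Bool × Bool × Bool → E := fun t => ⟨sp e f x t.1 t.2.1 t.2.2, sp_mem h _ _ _⟩
  have hinj : Function.Injective φ := by
    rintro ⟨a, b, c⟩ ⟨a', b', c'⟩ h0
    obtain ⟨h1, h2, h3⟩ := sp_inj hE h (congrArg Subtype.val h0)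
    have h1' : a = a' := h1
    have h2' : b = b' := h2
    have h3' : c = c' := h3
    rw [h1', h2', h3']
  have hc : Fintype.card (Bool × Bool × Bool) = Fintype.card E := by
    rw [← Nat.card_eq_fintype_card (α := E), hE.card]
    rfl
  have hb := (Fintype.bijective_iff_injective_and_card φ).2 ⟨hinj, hc⟩
  obtain ⟨⟨a, b, c⟩, h1⟩ := hb.2 ⟨y, hy⟩
  exact ⟨a, b, c, (congrArg Subtype.val h1).symm⟩

/-! changes of basis -/

theorem sp_12 (hE : El E) (h : Bs E e f x) (a b c : Bool) : sp f e x a b c = sp e f x b a c := by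
  unfold sp
  exact hE.lcomm (pw_mem h.hf a) (pw_mem h.he b)

theorem sp_23 (hE : El E) (h : Bs E e f x) (a b c : Bool) : sp e x f a b c = sp e f x a c b := by
  unfold sp
  rw [hE.comm _ (pw_mem h.hx b) _ (pw_mem h.hf c)]

/-- `x → f x` -/
theorem sp_fx (hE : El E) (h : Bs E e f x) (a b c : Bool) :
    sp e f (f * x) a b c = sp e f x a (b ^^ c) c := by
  unfold sp
  cases b <;> cases c <;> simp [pw, hE.cancel h.hf]

theorem Bs.s12 (hE : El E) (h : Bs E e f x) : Bs E f e x :=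
  ⟨h.hf, h.he, h.hx, h.f1, h.e1, h.fe.symm, h.x1, h.xf, h.xe, by
    rw [hE.comm _ h.hf _ h.he]; exact h.xef⟩

theorem mul_ne_left {a b : G} (h : b ≠ 1) : a * b ≠ a := fun h0 => h (mul_eq_left.1 h0)

theorem mul_ne_right {a b : G} (h : a ≠ 1) : a * b ≠ b := fun h0 => h (mul_eq_right.1 h0)

theorem El.mul_ne_one (hE : El E) {a b : G} (ha : a ∈ E) (h : b ≠ a) : a * b ≠ 1 := by
  intro h0
  apply h
  have := eq_inv_of_mul_eq_one_right h0
  rwa [hE.inv ha] at this

theorem Bs.s23 (hE : El E) (h : Bs E e f x) : Bs E e x f :=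
  ⟨h.he, h.hx, h.hf, h.e1, h.x1, h.xe, h.f1, h.fe, h.xf.symm, fun h0 => h.xef (by
    rw [h0, hE.cancel h.he])⟩

theorem Bs.fx (hE : El E) (h : Bs E e f x) : Bs E e f (f * x) :=
  ⟨h.he, h.hf, E.mul_mem h.hf h.hx, h.e1, h.f1, h.fe, hE.mul_ne_one h.hf h.xf,
    fun h0 => h.xef (by rw [← h0, hE.comm _ (E.mul_mem h.hf h.hx) _ h.hf, hE.cancel h.hf]),
    mul_ne_left h.x1, fun h0 => h.xe (by
      rw [hE.comm _ h.he _ h.hf] at h0
      exact mul_left_cancel h0)⟩

theorem Bs.ex (hE : El E) (h : Bs E e f x) : Bs E e f (e * x) := ((h.s12 hE).fx hE).s12 hE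

theorem Bs.ef (hE : El E) (h : Bs E e f x) : Bs E e (e * f) x := (((h.s23 hE).ex hE)).s23 hE

theorem sp_ex (hE : El E) (h : Bs E e f x) (a b c : Bool) :
    sp e f (e * x) a b c = sp e f x (a ^^ c) b c := by
  rw [sp_12 hE ((h.s12 hE).fx hE), sp_fx hE (h.s12 hE), sp_12 hE h]

theorem sp_ef (hE : El E) (h : Bs E e f x) (a b c : Bool) :
    sp e (e * f) x a b c = sp e f x (a ^^ b) b c := by
  rw [sp_23 hE (((h.s23 hE).ex hE)), sp_ex hE (h.s23 hE), sp_23 hE h]

/-- `e → e f` -/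
theorem sp_fe (hE : El E) (h : Bs E e f x) (a b c : Bool) :
    sp (e * f) f x a b c = sp e f x a (a ^^ b) c := by
  have h1 := h.s12 hE
  have h2 := h1.ef hE
  rw [hE.comm _ h.he _ h.hf, sp_12 hE h2, sp_ef hE h1, sp_12 hE h, Bool.xor_comm]

end

/-! conjugation -/

section
variable {E : Subgroup G} {e f x : G}

theorem conj_mul (g a b : G) : g * (a * b) * g⁻¹ = g * a * g⁻¹ * (g * b * g⁻¹) := by group

theorem conj_eq_one {g a : G} : g * a * g⁻¹ = 1 ↔ a = 1 := by
  constructor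
  · intro h
    have : a = g⁻¹ * (g * a * g⁻¹) * g := by group
    rw [this, h]; group
  · rintro rfl; group

theorem conj_inj {g a b : G} (h : g * a * g⁻¹ = g * b * g⁻¹) : a = b := by
  have : a = g⁻¹ * (g * a * g⁻¹) * g := by group
  rw [this, h]; group

theorem Bs.conj (hn : E.Normal) (h : Bs E e f x) (g : G) :
    Bs E (g * e * g⁻¹) (g * f * g⁻¹) (g * x * g⁻¹) where
  he := hn.conj_mem _ h.he g
  hf := hn.conj_mem _ h.hf g
  hx := hn.conj_mem _ h.hx g
  e1 := fun h0 => h.e1 (conj_eq_one.1 h0)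
  f1 := fun h0 => h.f1 (conj_eq_one.1 h0)
  fe := fun h0 => h.fe (conj_inj h0)
  x1 := fun h0 => h.x1 (conj_eq_one.1 h0)
  xe := fun h0 => h.xe (conj_inj h0)
  xf := fun h0 => h.xf (conj_inj h0)
  xef := fun h0 => h.xef (by rw [← conj_mul] at h0; exact conj_inj h0)

theorem conj_pw (g a : G) (c : Bool) : g * pw c a * g⁻¹ = pw c (g * a * g⁻¹) := by
  cases c <;> simp [pw]

theorem conj_sp (g : G) (a b c : Bool) :
    g * sp e f x a b c * g⁻¹ = sp (g * e * g⁻¹) (g * f * g⁻¹) (g * x * g⁻¹) a b c := by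
  unfold sp
  rw [conj_mul, conj_mul, conj_pw, conj_pw, conj_pw]

/-- extend two points to a basis -/
theorem exists_bs (hE : El E) (he : e ∈ E) (hf : f ∈ E) (e1 : e ≠ 1) (f1 : f ≠ 1) (fe : f ≠ e) :
    ∃ x, Bs E e f x := by
  classical
  by_contra hcon
  push Not at hcon
  haveI : Finite E := Nat.finite_of_card_ne_zero (by rw [hE.card]; norm_num)
  have h1 : (E : Set G) ⊆ (({1, e, f, e * f} : Finset G) : Set G) := by
    intro x hx
    by_contra h2
    simp only [Finset.coe_insert, Finset.coe_singleton, Set.mem_insert_iff, Set.mem_singleton_iff,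
      not_or] at h2
    exact hcon x ⟨he, hf, hx, e1, f1, fe, h2.1, h2.2.1, h2.2.2.1, h2.2.2.2⟩
  have h3 := Set.ncard_le_ncard h1 (Finset.finite_toSet _)
  rw [Set.ncard_coe_finset] at h3
  have h4 : (E : Set G).ncard = 8 := hE.card
  have h5 : ({1, e, f, e * f} : Finset G).card ≤ 4 := Finset.card_le_four
  omega

/-- `x` and `x'` outside the line `{1, e, f, ef}` differ by an element of the line -/
theorem coset (hE : El E) (h : Bs E e f x) {x' : G} (h' : Bs E e f x') :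
    ∃ a b : Bool, x' = x * (pw a e * pw b f) := by
  obtain ⟨a, b, c, h1⟩ := span hE h h'.hx
  refine ⟨a, b, ?_⟩
  cases c
  · exfalso
    revert h1
    cases a <;> cases b <;> simp only [sp, pw, cond_true, cond_false, one_mul, mul_one] <;> intro h1
    · exact h'.x1 h1
    · exact h'.xf h1
    · exact h'.xe h1
    · exact h'.xef h1
  · rw [h1]
    unfold sp
    show pw a e * (pw b f * x) = _
    rw [← mul_assoc]
    exact hE.comm _ (E.mul_mem (pw_mem h.he a) (pw_mem h.hf b)) _ h.hx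

/-- transitivity on bases -/
def Full (E : Subgroup G) : Prop :=
  ∀ e f x e' f' x' : G, Bs E e f x → Bs E e' f' x' →
    ∃ g : G, g * e * g⁻¹ = e' ∧ g * f * g⁻¹ = f' ∧ g * x * g⁻¹ = x'

/-- an element acting as a transvection with axis `{1, e, f, ef}` and centre `l` -/
def TVx (E : Subgroup G) (e f l g : G) : Prop :=
  g * e * g⁻¹ = e ∧ g * f * g⁻¹ = f ∧ ∀ x, Bs E e f x → g * x * g⁻¹ = x * l

theorem tv_of (hE : El E) (hn : E.Normal) {g : G} (he : e ∈ E) (hf : f ∈ E) (e1 : e ≠ 1) (f1 : f ≠ 1)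
    (fe : f ≠ e) (h1 : g * e * g⁻¹ = e) (h2 : g * f * g⁻¹ = f) (h3 : ∃ y ∈ E, g * y * g⁻¹ ≠ y) :
    ∃ l, l ≠ 1 ∧ (l = e ∨ l = f ∨ l = e * f) ∧ TVx E e f l g := by
  obtain ⟨x, hx⟩ := exists_bs hE he hf e1 f1 fe
  have hgx : Bs E e f (g * x * g⁻¹) := by
    have := hx.conj hn g
    rwa [h1, h2] at this
  obtain ⟨a, b, hab⟩ := coset hE hx hgx
  have hl : ∀ x', Bs E e f x' → g * x' * g⁻¹ = x' * (pw a e * pw b f) := by
    intro x' hx'
    obtain ⟨a', b', h4⟩ := coset hE hx hx'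
    have h5 : g * (pw a' e * pw b' f) * g⁻¹ = pw a' e * pw b' f := by
      rw [conj_mul, conj_pw, conj_pw, h1, h2]
    rw [h4, conj_mul, h5, hab]
    have hm1 : pw a e * pw b f ∈ E := E.mul_mem (pw_mem he a) (pw_mem hf b)
    have hm2 : pw a' e * pw b' f ∈ E := E.mul_mem (pw_mem he a') (pw_mem hf b')
    rw [mul_assoc x, mul_assoc x, hE.comm _ hm1 _ hm2]
  have hne : pw a e * pw b f ≠ 1 := by
    intro h0
    obtain ⟨y, hy, hgy⟩ := h3
    apply hgy
    obtain ⟨a', b', c', h4⟩ := span hE hx hy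
    rw [h4, conj_sp, h1, h2, hl x hx, h0, mul_one]
  refine ⟨_, hne, ?_, h1, h2, hl⟩
  revert hne
  cases a <;> cases b <;> simp [pw]

/-- some element of `G` acts as a transvection -/
theorem exists_tv (hE : El E) (hn : E.Normal) (h2 : TTr E) :
    ∃ e f l g, e ∈ E ∧ f ∈ E ∧ e ≠ 1 ∧ f ≠ 1 ∧ f ≠ e ∧ l ≠ 1 ∧ (l = e ∨ l = f ∨ l = e * f) ∧
      TVx E e f l g := by
  -- two distinct points
  obtain ⟨e, he, e1⟩ : ∃ e ∈ E, e ≠ 1 := by
    by_contra hcon
    push Not at hcon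
    have : E = ⊥ := by rw [eq_bot_iff]; intro y hy; exact hcon y hy
    have h1 := hE.card
    rw [this, card_bot] at h1
    omega
  obtain ⟨f, hf, f1, fe⟩ : ∃ f ∈ E, f ≠ 1 ∧ f ≠ e := by
    classical
    by_contra hcon
    push Not at hcon
    haveI : Finite E := Nat.finite_of_card_ne_zero (by rw [hE.card]; norm_num)
    have h1 : (E : Set G) ⊆ (({1, e} : Finset G) : Set G) := by
      intro x hx
      by_contra h2
      simp only [Finset.coe_insert, Finset.coe_singleton, Set.mem_insert_iff, Set.mem_singleton_iff,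
        not_or] at h2
      exact h2.2 (hcon x hx h2.1)
    have h3 := Set.ncard_le_ncard h1 (Finset.finite_toSet _)
    rw [Set.ncard_coe_finset] at h3
    have h4 : (E : Set G).ncard = 8 := hE.card
    have h5 : ({1, e} : Finset G).card ≤ 2 := Finset.card_le_two
    omega
  obtain ⟨g, hg1, hg2⟩ := h2 e he f hf f hf e he e1 f1 fe.symm f1 e1 fe
  have hc := hE.comm e he f hf
  -- `g` swaps `e` and `f`
  have key : ∀ e' f' g' : G, e' ∈ E → f' ∈ E → e' ≠ 1 → f' ≠ 1 → f' ≠ e' → g' * e' * g'⁻¹ = e' →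
      g' * f' * g'⁻¹ = f' → (∃ y ∈ E, g' * y * g'⁻¹ ≠ y) →
      ∃ e f l g, e ∈ E ∧ f ∈ E ∧ e ≠ 1 ∧ f ≠ 1 ∧ f ≠ e ∧ l ≠ 1 ∧ (l = e ∨ l = f ∨ l = e * f) ∧
      TVx E e f l g := by
    intro e' f' g' h1 h2 h3 h4 h5 h6 h7 h8
    obtain ⟨l, h9, h10, h11⟩ := tv_of hE hn h1 h2 h3 h4 h5 h6 h7 h8
    exact ⟨e', f', l, g', h1, h2, h3, h4, h5, h9, h10, h11⟩
  have hmv : ∃ y ∈ E, g * y * g⁻¹ ≠ y := ⟨e, he, by rw [hg1]; exact fe⟩
  have hef : e * f ∈ E := E.mul_mem he hf
  have hef1 : e * f ≠ 1 := hE.mul_ne_one he fe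
  have hgef : g * (e * f) * g⁻¹ = e * f := by rw [conj_mul, hg1, hg2, ← hc]
  by_cases hsq : ∀ y ∈ E, (g * g) * y * (g * g)⁻¹ = y
  · obtain ⟨x, hx⟩ := exists_bs hE he hf e1 f1 fe
    have hxx : g * (g * x * g⁻¹) * g⁻¹ = x := by
      calc g * (g * x * g⁻¹) * g⁻¹ = (g * g) * x * (g * g)⁻¹ := by group
        _ = x := hsq x hx.hx
    have hgxE : g * x * g⁻¹ ∈ E := hn.conj_mem _ hx.hx g
    have hb : g * (x * (g * x * g⁻¹)) * g⁻¹ = x * (g * x * g⁻¹) := by
      rw [conj_mul, hxx, hE.comm _ hgxE _ hx.hx]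
    by_cases hb1 : x * (g * x * g⁻¹) = 1
    · have hfix : g * x * g⁻¹ = x := by
        have := eq_inv_of_mul_eq_one_right hb1
        rw [this, hE.inv hx.hx]
      exact key (e * f) x g hef hx.hx hef1 hx.x1 hx.xef hgef hfix hmv
    by_cases hb2 : x * (g * x * g⁻¹) = e * f
    · have h5 : g * x * g⁻¹ = x * (e * f) := by
        rw [← hb2, hE.cancel hx.hx]
      have h6 : g * (x * e) * g⁻¹ = x * e := by
        rw [conj_mul, h5, hg1, mul_assoc, mul_assoc, hE.sq f hf, mul_one]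
      refine key (e * f) (x * e) g hef (E.mul_mem hx.hx he) hef1 ?_ ?_ hgef h6 hmv
      · exact hE.mul_ne_one hx.hx (Ne.symm hx.xe)
      · intro h7
        apply hx.xf
        rw [hc] at h7
        exact mul_right_cancel h7
    · exact key (e * f) (x * (g * x * g⁻¹)) g hef (E.mul_mem hx.hx hgxE) hef1 hb1 hb2 hgef hb hmv
  · push Not at hsq
    refine key e f (g * g) he hf e1 f1 fe ?_ ?_ hsq
    · calc g * g * e * (g * g)⁻¹ = g * (g * e * g⁻¹) * g⁻¹ := by group
        _ = e := by rw [hg1, hg2]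
    · calc g * g * f * (g * g)⁻¹ = g * (g * f * g⁻¹) * g⁻¹ := by group
        _ = f := by rw [hg2, hg1]

end

end H30.PyrN
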