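import Cfsg.Agent.Lib.H30.PyrN1

set_option autoImplicit false

/-!
S3930 (helper73), piece B-NA: transitivity on bases, equivariant functions of bases.
-/

namespace H30.PyrN

open Subgroup H73.Pyr

variable {G : Type*} [Group G]

/-- `g` acts as the transvection with centre `e` and axis `{1, e, f, ef}` -/
structure TN (E : Subgroup G) (e f g : G) : Prop where
  ge : g * e * g⁻¹ = e
  gf : g * f * g⁻¹ = f
  gx : ∀ x, Bs E e f x → g * x * g⁻¹ = x * e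

section
variable {E : Subgroup G} {e f x : G}

theorem Bs.ef1 (hE : El E) (h : Bs E e f x) : Bs E (e * f) f x := by
  have := ((h.s12 hE).ef hE).s12 hE
  rwa [hE.comm _ h.hf _ h.he] at this

/-- the transvection as a `TN` -/
theorem exists_tn (hE : El E) (hn : E.Normal) (h2 : TTr E) :
    ∃ e f g, e ∈ E ∧ f ∈ E ∧ e ≠ 1 ∧ f ≠ 1 ∧ f ≠ e ∧ TN E e f g := by
  obtain ⟨e, f, l, g, he, hf, e1, f1, fe, -, hl, h3, h4, h5⟩ := exists_tv hE hn h2
  have hc := hE.comm e he f hf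
  rcases hl with rfl | rfl | rfl
  · exact ⟨l, f, g, he, hf, e1, f1, fe, h3, h4, h5⟩
  · exact ⟨l, e, g, hf, he, f1, e1, fe.symm, h4, h3, fun x hx => h5 x (hx.s12 hE)⟩
  · refine ⟨e * f, f, g, E.mul_mem he hf, hf, hE.mul_ne_one he fe, f1, ?_, ?_, h4, ?_⟩
    · intro h0
      exact e1 (mul_eq_right.1 h0.symm)
    · rw [conj_mul, h3, h4]
    · intro x hx
      have := hx.ef1 hE
      rw [mul_assoc, hE.sq f hf, mul_one] at this
      exact h5 x this

theorem TN.conj (hE : El E) (hn : E.Normal) {g : G} (h : TN E e f g) (k : G) :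
    TN E (k * e * k⁻¹) (k * f * k⁻¹) (k * g * k⁻¹) where
  ge := by
    calc k * g * k⁻¹ * (k * e * k⁻¹) * (k * g * k⁻¹)⁻¹ = k * (g * e * g⁻¹) * k⁻¹ := by group
      _ = _ := by rw [h.ge]
  gf := by
    calc k * g * k⁻¹ * (k * f * k⁻¹) * (k * g * k⁻¹)⁻¹ = k * (g * f * g⁻¹) * k⁻¹ := by group
      _ = _ := by rw [h.gf]
  gx := by
    intro x hx
    have h1 := hx.conj hn k⁻¹
    have e1 : k⁻¹ * (k * e * k⁻¹) * k⁻¹⁻¹ = e := by group
    have e2 : k⁻¹ * (k * f * k⁻¹) * k⁻¹⁻¹ = f := by group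
    rw [e1, e2] at h1
    have h3 := h.gx _ h1
    calc k * g * k⁻¹ * x * (k * g * k⁻¹)⁻¹ = k * (g * (k⁻¹ * x * k⁻¹⁻¹) * g⁻¹) * k⁻¹ := by group
      _ = k * (k⁻¹ * x * k⁻¹⁻¹ * e) * k⁻¹ := by rw [h3]
      _ = _ := by group

theorem tn (hE : El E) (hn : E.Normal) (h2 : TTr E) (he : e ∈ E) (hf : f ∈ E) (e1 : e ≠ 1)
    (f1 : f ≠ 1) (fe : f ≠ e) : ∃ g, TN E e f g := by
  obtain ⟨e', f', g, he', hf', e1', f1', fe', h⟩ := exists_tn hE hn h2
  obtain ⟨k, hk1, hk2⟩ := h2 e' he' f' hf' e he f hf e1' f1' fe'.symm e1 f1 fe.symm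
  have := h.conj hE hn k
  rw [hk1, hk2] at this
  exact ⟨_, this⟩

theorem full (hE : El E) (hn : E.Normal) (h2 : TTr E) : Full E := by
  intro e f x e' f' x' h h'
  obtain ⟨g, hg1, hg2⟩ := h2 e h.he f h.hf e' h'.he f' h'.hf h.e1 h.f1 h.fe.symm h'.e1 h'.f1 h'.fe.symm
  have h1 := h.conj hn g
  rw [hg1, hg2] at h1
  obtain ⟨a, b, hab⟩ := coset hE h1 h'
  have fin : ∀ k : G, k * e' * k⁻¹ = e' → k * f' * k⁻¹ = f' → k * (g * x * g⁻¹) * k⁻¹ = x' →
      ∃ g : G, g * e * g⁻¹ = e' ∧ g * f * g⁻¹ = f' ∧ g * x * g⁻¹ = x' := by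
    intro k h3 h4 h5
    refine ⟨k * g, ?_, ?_, ?_⟩
    · calc k * g * e * (k * g)⁻¹ = k * (g * e * g⁻¹) * k⁻¹ := by group
        _ = e' := by rw [hg1, h3]
    · calc k * g * f * (k * g)⁻¹ = k * (g * f * g⁻¹) * k⁻¹ := by group
        _ = f' := by rw [hg2, h4]
    · calc k * g * x * (k * g)⁻¹ = k * (g * x * g⁻¹) * k⁻¹ := by group
        _ = x' := h5
  cases a <;> cases b <;> simp only [pw, cond_true, cond_false, one_mul, mul_one] at hab
  · exact fin 1 (by group) (by group) (by rw [hab]; group)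
  · obtain ⟨k, hk⟩ := tn hE hn h2 h'.hf h'.he h'.f1 h'.e1 h'.fe.symm
    exact fin k hk.gf hk.ge (by rw [hk.gx _ (h1.s12 hE), hab])
  · obtain ⟨k, hk⟩ := tn hE hn h2 h'.he h'.hf h'.e1 h'.f1 h'.fe
    exact fin k hk.ge hk.gf (by rw [hk.gx _ h1, hab])
  · have h6 := h'.ef1 hE
    obtain ⟨k, hk⟩ := tn hE hn h2 h6.he h6.hf h6.e1 h6.f1 h6.fe
    refine fin k ?_ hk.gf ?_
    · have h7 := hk.ge
      rw [conj_mul, hk.gf] at h7
      exact mul_right_cancel h7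
    · rw [hk.gx _ (h1.ef1 hE), hab]

/-- equivariant functions of a basis -/
theorem const (hE : El E) (hF : Full E) {F : G → G → G → G}
    (hm : ∀ e f x, Bs E e f x → F e f x ∈ E)
    (hq : ∀ g e f x, Bs E e f x → g * F e f x * g⁻¹ = F (g * e * g⁻¹) (g * f * g⁻¹) (g * x * g⁻¹)) :
    ∃ a b c : Bool, ∀ e f x, Bs E e f x → F e f x = sp e f x a b c := by
  by_cases hb : ∃ e f x, Bs E e f x
  · obtain ⟨e, f, x, h⟩ := hb
    obtain ⟨a, b, c, h1⟩ := span hE h (hm e f x h)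
    refine ⟨a, b, c, fun e' f' x' h' => ?_⟩
    obtain ⟨g, g1, g2, g3⟩ := hF e f x e' f' x' h h'
    have h2 := hq g e f x h
    rw [h1, conj_sp, g1, g2, g3] at h2
    exact h2.symm
  · push Not at hb
    exact ⟨false, false, false, fun e f x h => absurd h (hb e f x)⟩

end

end H30.PyrN
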