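import Cfsg.Agent.Lib.H30.PyrN2
import Cfsg.Agent.Lib.H29.PGrp

set_option autoImplicit false

/-!
S3930 (helper73), piece B-NA: the special 2-group `T = C_G(E)`; the equivariant system `U(e,f)`.
-/

namespace H30.PyrN

open Subgroup H73.Pyr
open scoped commutatorElement

variable {G : Type*} [Group G]

def cm (s t : G) : G := s * t * s⁻¹ * t⁻¹

abbrev qq (E : Subgroup G) [E.Normal] : G →* G ⧸ E := QuotientGroup.mk' E

theorem qq_eq {E : Subgroup G} [E.Normal] {a b : G} : qq E a = qq E b ↔ a⁻¹ * b ∈ E :=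
  QuotientGroup.eq

theorem qq_one {E : Subgroup G} [E.Normal] {a : G} : qq E a = 1 ↔ a ∈ E :=
  QuotientGroup.eq_one_iff a

structure TT (E T : Subgroup G) : Prop where
  el : El E
  Tn : T.Normal
  ET : E ≤ T
  cen : ∀ e ∈ E, ∀ t ∈ T, e * t = t * e
  sqE : ∀ t ∈ T, t * t ∈ E
  one : ∀ t ∈ T, t * t = 1 → t ∈ E
  com : ∀ s ∈ T, ∀ t ∈ T, cm s t ∈ E
  full : Full E
  p2 : IsPGroup 2 T
  cE : ∀ g : G, (∀ e ∈ E, g * e * g⁻¹ = e) → g ∈ T
  ne : E ≠ T

section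
variable {E T : Subgroup G} [hEn : E.Normal]

theorem cm_conj (g s t : G) : g * cm s t * g⁻¹ = cm (g * s * g⁻¹) (g * t * g⁻¹) := by
  unfold cm; group

theorem TT.cmul (H : TT E T) {s s' t : G} (hs : s ∈ T) (hs' : s' ∈ T) (ht : t ∈ T) :
    cm (s * s') t = cm s t * cm s' t := by
  have h1 := H.com s' hs' t ht
  have h2 : cm s' t * (s * t) = s * t * cm s' t := H.cen _ h1 _ (T.mul_mem hs ht)
  have h3 := H.com s hs t ht
  unfold cm at *
  calc s * s' * t * (s * s')⁻¹ * t⁻¹ = s * (s' * t * s'⁻¹ * t⁻¹) * t * s⁻¹ * t⁻¹ := by group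
    _ = (s' * t * s'⁻¹ * t⁻¹ * (s * t)) * s⁻¹ * t⁻¹ := by
        rw [← H.cen _ h1 s hs]; group
    _ = (s' * t * s'⁻¹ * t⁻¹) * (s * t * s⁻¹ * t⁻¹) := by group
    _ = _ := H.el.comm _ h1 _ h3

theorem TT.cinv (H : TT E T) {s t : G} (hs : s ∈ T) (ht : t ∈ T) : cm s t = cm t s := by
  have h1 : cm t s = (cm s t)⁻¹ := by unfold cm; group
  rw [h1, H.el.inv (H.com s hs t ht)]

theorem TT.cmul' (H : TT E T) {s t t' : G} (hs : s ∈ T) (ht : t ∈ T) (ht' : t' ∈ T) :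
    cm s (t * t') = cm s t * cm s t' := by
  rw [H.cinv hs (T.mul_mem ht ht'), H.cmul ht ht' hs, H.cinv ht hs, H.cinv ht' hs]

theorem TT.cE1 (H : TT E T) {e t : G} (he : e ∈ E) (ht : t ∈ T) : cm e t = 1 := by
  unfold cm
  rw [H.cen e he t ht]; group

theorem TT.ccongr (H : TT E T) {s s' t : G} (hs : s ∈ T) (ht : t ∈ T) (h : qq E s = qq E s') :
    cm s t = cm s' t := by
  have h1 := qq_eq.1 h
  have h2 : s' = s * (s⁻¹ * s') := by group
  rw [h2, H.cmul hs (H.ET h1) ht, H.cE1 h1 ht, mul_one]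

theorem TT.mem_of_q (H : TT E T) {s s' : G} (hs : s ∈ T) (h : qq E s = qq E s') : s' ∈ T := by
  have h1 := qq_eq.1 h
  have h2 : s' = s * (s⁻¹ * s') := by group
  rw [h2]; exact T.mul_mem hs (H.ET h1)

theorem TT.ccongr' (H : TT E T) {s t t' : G} (hs : s ∈ T) (ht : t ∈ T) (h : qq E t = qq E t') :
    cm s t = cm s t' := by
  rw [H.cinv hs ht, H.ccongr ht hs h, H.cinv (H.mem_of_q ht h) hs]

theorem TT.sqmul (H : TT E T) {s t : G} (hs : s ∈ T) (ht : t ∈ T) :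
    s * t * (s * t) = s * s * (t * t) * cm s t := by
  have h1 : cm s t * cm s⁻¹ t = 1 := by
    rw [← H.cmul hs (T.inv_mem hs) ht, mul_inv_cancel]
    unfold cm; group
  have h2 : cm s⁻¹ t = cm s t := by
    rw [eq_inv_of_mul_eq_one_right h1, H.el.inv (H.com s hs t ht)]
  have h3 : cm s t * (t * t) = t * t * cm s t := H.cen _ (H.com s hs t ht) _ (T.mul_mem ht ht)
  calc s * t * (s * t) = s * s * (cm s⁻¹ t * (t * t)) := by unfold cm; group
    _ = _ := by rw [h2, h3, ← mul_assoc]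

theorem TT.sqcongr (H : TT E T) {s s' : G} (hs : s ∈ T) (h : qq E s = qq E s') : s * s = s' * s' := by
  have h1 := qq_eq.1 h
  have h2 : s' = s * (s⁻¹ * s') := by group
  rw [h2, H.sqmul hs (H.ET h1), H.el.sq _ h1, H.cinv hs (H.ET h1), H.cE1 h1 hs, mul_one, mul_one]

theorem TT.qcomm (H : TT E T) {s t : G} (hs : s ∈ T) (ht : t ∈ T) :
    qq E s * qq E t = qq E t * qq E s := by
  rw [← map_mul, ← map_mul, qq_eq]
  have := H.com t⁻¹ (T.inv_mem ht) s⁻¹ (T.inv_mem hs)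
  have h2 : (s * t)⁻¹ * (t * s) = cm t⁻¹ s⁻¹ := by unfold cm; group
  rw [h2]; exact this

theorem TT.qsq (H : TT E T) {s : G} (hs : s ∈ T) : qq E s * qq E s = 1 := by
  rw [← map_mul]
  exact qq_one.2 (H.sqE s hs)

theorem conj_q (g : G) {s s' : G} (h : qq E s = qq E s') : qq E (g * s * g⁻¹) = qq E (g * s' * g⁻¹) := by
  rw [map_mul, map_mul, map_mul, map_mul, h]

/-- the stabiliser of the flag `(e, {e, f, ef})` -/
def flag (E : Subgroup G) (hE : El E) (hn : E.Normal) {e f : G} (he : e ∈ E) (hf : f ∈ E) : Subgroup G where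
  carrier := {g | g * e * g⁻¹ = e ∧ (g * f * g⁻¹ = f ∨ g * f * g⁻¹ = e * f)}
  one_mem' := ⟨by group, Or.inl (by group)⟩
  mul_mem' := by
    rintro g k ⟨h1, h2⟩ ⟨h3, h4⟩
    have h5 : g * k * e * (g * k)⁻¹ = e := by
      calc g * k * e * (g * k)⁻¹ = g * (k * e * k⁻¹) * g⁻¹ := by group
        _ = e := by rw [h3, h1]
    have h6 : g * k * f * (g * k)⁻¹ = g * (k * f * k⁻¹) * g⁻¹ := by group
    refine ⟨h5, ?_⟩
    rw [h6]
    rcases h4 with h4 | h4 <;> rw [h4]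
    · exact h2
    · rw [conj_mul, h1]
      rcases h2 with h2 | h2 <;> rw [h2]
      · exact Or.inr rfl
      · left; exact hE.cancel he
  inv_mem' := by
    rintro g ⟨h1, h2⟩
    have h3 : g⁻¹ * e * g⁻¹⁻¹ = e := by
      nth_rewrite 1 [← h1]; group
    refine ⟨h3, ?_⟩
    rcases h2 with h2 | h2
    · left; nth_rewrite 1 [← h2]; group
    · right
      have h4 : g⁻¹ * (g * f * g⁻¹) * g⁻¹⁻¹ = f := by group
      rw [h2, conj_mul, h3] at h4
      nth_rewrite 2 [← h4]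
      rw [hE.cancel he]

theorem TT.flag_p (H : TT E T) {e f x : G} (h : Bs E e f x) :
    IsPGroup 2 (flag E H.el hEn h.he h.hf) := by
  rintro ⟨g, hg⟩
  obtain ⟨h1, h2⟩ := hg
  have h3 : (g * g) * e * (g * g)⁻¹ = e := by
    calc (g * g) * e * (g * g)⁻¹ = g * (g * e * g⁻¹) * g⁻¹ := by group
      _ = e := by rw [h1, h1]
  have h4 : (g * g) * f * (g * g)⁻¹ = f := by
    calc (g * g) * f * (g * g)⁻¹ = g * (g * f * g⁻¹) * g⁻¹ := by group
      _ = f := by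
        rcases h2 with h2 | h2
        · rw [h2, h2]
        · rw [h2, conj_mul, h1, h2, H.el.cancel h.he]
  have h5 := h.conj hEn (g * g)
  rw [h3, h4] at h5
  obtain ⟨a, b, hab⟩ := coset H.el h h5
  have hl : pw a e * pw b f ∈ E := E.mul_mem (pw_mem h.he a) (pw_mem h.hf b)
  have h6 : (g * g) * (pw a e * pw b f) * (g * g)⁻¹ = pw a e * pw b f := by
    rw [conj_mul, conj_pw, conj_pw, h3, h4]
  have h7 : g ^ 4 ∈ T := by
    apply H.cE
    intro y hy
    obtain ⟨a', b', c', rfl⟩ := span H.el h hy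
    have e1 : g ^ 4 = (g * g) * (g * g) := by
      rw [← pow_two, ← pow_two, ← pow_mul]
    have e2 : ∀ w : G, g ^ 4 * w * (g ^ 4)⁻¹ = (g * g) * ((g * g) * w * (g * g)⁻¹) * (g * g)⁻¹ := by
      intro w; rw [e1]; group
    rw [conj_sp, e2 e, e2 f, e2 x, h3, h3, h4, h4, hab, conj_mul, h6, hab, mul_assoc,
      H.el.sq _ hl, mul_one]
  obtain ⟨k, hk⟩ := H.p2 ⟨g ^ 4, h7⟩
  have hk' : (g ^ 4) ^ 2 ^ k = 1 := congrArg Subtype.val hk
  refine ⟨2 + k, Subtype.ext ?_⟩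
  show g ^ 2 ^ (2 + k) = 1
  rw [pow_add, pow_mul]
  exact hk'

/-- a vector fixed by the flag stabiliser modulo `E` -/
theorem TT.exists_u [Finite G] (H : TT E T) {e f x : G} (h : Bs E e f x) :
    ∃ u ∈ T, u * u = e ∧ ∀ g ∈ flag E H.el hEn h.he h.hf, qq E (g * u * g⁻¹) = qq E u := by
  haveI : Fact (Nat.Prime 2) := ⟨Nat.prime_two⟩
  have hTD : T ≤ flag E H.el hEn h.he h.hf := by
    intro t ht
    have h1 : ∀ y ∈ E, t * y * t⁻¹ = y := fun y hy => by rw [← H.cen y hy t ht]; group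
    exact ⟨h1 e h.he, Or.inl (h1 f h.hf)⟩
  haveI := H.Tn
  obtain ⟨K, hK1, hK2, -, hK4, hK5⟩ := H29.PGrp.exists_normal_step (p := 2) (H.flag_p h) hTD
    (N := E) (by rw [normalizer_eq_top]; exact le_top) (by rw [normalizer_eq_top]; exact le_top)
    (lt_of_le_of_ne H.ET H.ne)
  obtain ⟨u, huK, huE⟩ : ∃ u ∈ K, u ∉ E := by
    by_contra hcon
    push Not at hcon
    have h1 : K ≤ E := hcon
    have h2 := le_antisymm h1 hK1
    rw [h2, H.el.card] at hK4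
    omega
  have huT : u ∈ T := hK2 huK
  have hfix : ∀ g ∈ flag E H.el hEn h.he h.hf, qq E (g * u * g⁻¹) = qq E u := by
    intro g hg
    have h1 : ⁅u, g⁆ ∈ E := hK5 (commutator_mem_commutator huK hg)
    rw [eq_comm, qq_eq]
    have h2 : (⁅u, g⁆)⁻¹ ∈ E := E.inv_mem h1
    have h3 : u⁻¹ * (g * u * g⁻¹) = u⁻¹ * (⁅u, g⁆)⁻¹ * u⁻¹⁻¹ := by
      rw [commutatorElement_def]; group
    rw [h3]
    exact hEn.conj_mem _ h2 u⁻¹
  refine ⟨u, huT, ?_, hfix⟩
  -- the square is fixed by the flag stabiliser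
  have hsq : ∀ g ∈ flag E H.el hEn h.he h.hf, g * (u * u) * g⁻¹ = u * u := by
    intro g hg
    rw [conj_mul]
    exact (H.sqcongr huT (hfix g hg).symm).symm
  obtain ⟨a, b, c, hu⟩ := span H.el h (H.sqE u huT)
  obtain ⟨g1, h1, h2, h3⟩ := H.full e f x e (e * f) x h (h.ef H.el)
  have h4 := hsq g1 ⟨h1, Or.inr h2⟩
  rw [hu, conj_sp, h1, h2, h3, sp_ef H.el h] at h4
  obtain ⟨h5, -, -⟩ := sp_inj H.el h h4
  obtain ⟨g2, h1', h2', h3'⟩ := H.full e f x e f (e * x) h (h.ex H.el)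
  have h4' := hsq g2 ⟨h1', Or.inl h2'⟩
  rw [hu, conj_sp, h1', h2', h3', sp_ex H.el h] at h4'
  obtain ⟨h6, -, -⟩ := sp_inj H.el h h4'
  have hne : u * u ≠ 1 := fun h0 => huE (H.one u huT h0)
  rw [hu] at hne ⊢
  revert h5 h6 hne
  cases a <;> cases b <;> cases c <;> simp [sp, pw]

/-- the equivariant system -/
structure Sys (E T : Subgroup G) [E.Normal] (U : G → G → G) : Prop where
  mem : ∀ e f x, Bs E e f x → U e f ∈ T
  sq : ∀ e f x, Bs E e f x → U e f * U e f = e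
  eqv : ∀ g e f x, Bs E e f x → qq E (g * U e f * g⁻¹) = qq E (U (g * e * g⁻¹) (g * f * g⁻¹))
  flg : ∀ e f x, Bs E e f x → qq E (U e (e * f)) = qq E (U e f)

theorem TT.exists_sys [Finite G] (H : TT E T) : ∃ U, Sys E T U := by
  classical
  by_cases hb : ∃ e f x, Bs E e f x
  swap
  · push Not at hb
    exact ⟨fun _ _ => 1, fun e f x h => absurd h (hb e f x), fun e f x h => absurd h (hb e f x),
      fun g e f x h => absurd h (hb e f x), fun e f x h => absurd h (hb e f x)⟩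
  obtain ⟨e0, f0, x0, h0⟩ := hb
  obtain ⟨u, huT, hu2, hufix⟩ := H.exists_u h0
  -- all choices agree
  have key : ∀ g k e f x : G, Bs E e f x → g * e0 * g⁻¹ = e → g * f0 * g⁻¹ = f → k * e0 * k⁻¹ = e →
      (k * f0 * k⁻¹ = f ∨ k * f0 * k⁻¹ = e * f) → qq E (g * u * g⁻¹) = qq E (k * u * k⁻¹) := by
    intro g k e f x h h1 h2 h3 h4
    have h5 : g⁻¹ * k ∈ flag E H.el hEn h0.he h0.hf := by
      constructor
      · calc g⁻¹ * k * e0 * (g⁻¹ * k)⁻¹ = g⁻¹ * (k * e0 * k⁻¹) * g := by group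
          _ = e0 := by rw [h3, ← h1]; group
      · have e1 : g⁻¹ * k * f0 * (g⁻¹ * k)⁻¹ = g⁻¹ * (k * f0 * k⁻¹) * g := by group
        rw [e1]
        rcases h4 with h4 | h4 <;> rw [h4]
        · left; rw [← h2]; group
        · right; rw [← h1, ← h2]; group
    have h6 := conj_q g (hufix _ h5)
    rw [← h6]
    congr 1
    group
  have hex : ∀ e f x, Bs E e f x → ∃ g : G, g * e0 * g⁻¹ = e ∧ g * f0 * g⁻¹ = f := by
    intro e f x h
    obtain ⟨g, h1, h2, -⟩ := H.full e0 f0 x0 e f x h0 h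
    exact ⟨g, h1, h2⟩
  let U : G → G → G := fun e f =>
    if h : ∃ g : G, g * e0 * g⁻¹ = e ∧ g * f0 * g⁻¹ = f then h.choose * u * h.choose⁻¹ else 1
  have hU : ∀ e f x, Bs E e f x → ∃ g : G, g * e0 * g⁻¹ = e ∧ g * f0 * g⁻¹ = f ∧ U e f = g * u * g⁻¹ := by
    intro e f x h
    have h1 := hex e f x h
    refine ⟨h1.choose, h1.choose_spec.1, h1.choose_spec.2, ?_⟩
    show (if h : ∃ g : G, g * e0 * g⁻¹ = e ∧ g * f0 * g⁻¹ = f then h.choose * u * h.choose⁻¹ else 1) = _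
    rw [dif_pos h1]
  refine ⟨U, ?_, ?_, ?_, ?_⟩
  · intro e f x h
    obtain ⟨g, -, -, h3⟩ := hU e f x h
    rw [h3]
    exact H.Tn.conj_mem _ huT g
  · intro e f x h
    obtain ⟨g, h1, -, h3⟩ := hU e f x h
    rw [h3, ← conj_mul, hu2, h1]
  · intro k e f x h
    obtain ⟨g, h1, h2, h3⟩ := hU e f x h
    have h' := h.conj hEn k
    obtain ⟨g', h1', h2', h3'⟩ := hU _ _ _ h'
    rw [h3, h3']
    have e1 : k * (g * u * g⁻¹) * k⁻¹ = (k * g) * u * (k * g)⁻¹ := by group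
    rw [e1]
    refine key (k * g) g' _ _ _ h' ?_ ?_ h1' (Or.inl h2')
    · rw [← h1]; group
    · rw [← h2]; group
  · intro e f x h
    obtain ⟨g, h1, h2, h3⟩ := hU e f x h
    obtain ⟨g', h1', h2', h3'⟩ := hU _ _ _ (h.ef H.el)
    rw [h3, h3']
    exact (key g g' _ _ _ h h1 h2 h1' (Or.inr h2')).symm

end

end H30.PyrN
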