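import Cfsg.Agent.Lib.H30.PyrN3

set_option autoImplicit false

/-!
S3930 (helper73), piece B-NA: `U(e,f)` modulo `E` does not depend on `f` and is additive.
-/

namespace H30.PyrN

open Subgroup H73.Pyr
open scoped commutatorElement

variable {G : Type*} [Group G]

section
variable {E T : Subgroup G} [hEn : E.Normal] {U : G → G → G}

theorem El.ef_e (hE : El E) {e f : G} (he : e ∈ E) (hf : f ∈ E) : e * f * e = f := by
  rw [hE.comm e he f hf, mul_assoc, hE.sq e he, mul_one]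

/-- `U(ef, e) ≡ U(ef, f)` -/
theorem Sys.flg' (S : Sys E T U) (H : TT E T) {e f x : G} (h : Bs E e f x) :
    qq E (U (e * f) f) = qq E (U (e * f) e) := by
  have h1 : Bs E (e * f) e x := by
    have := (h.s12 H.el).ef1 H.el
    rwa [H.el.comm _ h.hf _ h.he] at this
  have h2 := S.flg _ _ _ h1
  rwa [H.el.ef_e h.he h.hf] at h2

theorem Sys.bs' (H : TT E T) {e f x : G} (h : Bs E e f x) : Bs E (e * f) e x := by
  have := (h.s12 H.el).ef1 H.el
  rwa [H.el.comm _ h.hf _ h.he] at this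

/-- the line relation -/
theorem Sys.line (S : Sys E T U) (H : TT E T) {e f x : G} (h : Bs E e f x) :
    qq E (U e f) * qq E (U f e) * qq E (U (e * f) e) = 1 := by
  set W : G → G → G := fun e f => U e f * U f e * U (e * f) e with hW
  have hWT : ∀ e f x, Bs E e f x → W e f ∈ T := fun e f x h =>
    T.mul_mem (T.mul_mem (S.mem _ _ _ h) (S.mem _ _ _ (h.s12 H.el))) (S.mem _ _ _ (Sys.bs' H h))
  have hq : ∀ e f, qq E (W e f) = qq E (U e f) * qq E (U f e) * qq E (U (e * f) e) := by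
    intro e f
    rw [hW]
    simp only [map_mul]
  obtain ⟨a, b, c, hF⟩ := const H.el H.full (F := fun e f _ => W e f * W e f)
    (fun e f x h => H.sqE _ (hWT e f x h)) (by
      intro g e f x h
      show g * (W e f * W e f) * g⁻¹ = _
      rw [conj_mul]
      apply H.sqcongr (H.Tn.conj_mem _ (hWT e f x h) g)
      have e1 : g * W e f * g⁻¹ = (g * U e f * g⁻¹) * (g * U f e * g⁻¹) * (g * U (e * f) e * g⁻¹) := by
        rw [hW]; simp only [conj_mul]
      rw [e1, hq, map_mul, map_mul, S.eqv g e f x h, S.eqv g f e x (h.s12 H.el),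
        S.eqv g (e * f) e x (Sys.bs' H h), conj_mul])
  -- `c = false`
  have h1 := hF e f (e * x) (h.ex H.el)
  rw [hF e f x h, sp_ex H.el h] at h1
  obtain ⟨h2, -, -⟩ := sp_inj H.el h h1
  -- symmetry
  have h3 : W f e * W f e = W e f * W e f := by
    refine H.sqcongr (hWT f e x (h.s12 H.el)) ?_
    rw [hq, hq, H.el.comm _ h.hf _ h.he, S.flg' H h, H.qcomm (S.mem _ _ _ (h.s12 H.el)) (S.mem _ _ _ h)]
  rw [hF f e x (h.s12 H.el), hF e f x h, sp_12 H.el h] at h3
  obtain ⟨h4, -, -⟩ := sp_inj H.el h h3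
  have h5 : W e (e * f) * W e (e * f) = W e f * W e f := by
    refine H.sqcongr (hWT _ _ x (h.ef H.el)) ?_
    rw [hq, hq, H.el.cancel h.he, S.flg e f x h, mul_assoc, mul_assoc,
      H.qcomm (S.mem _ _ _ (Sys.bs' H h)) (S.mem _ _ _ (h.s12 H.el))]
  rw [hF e (e * f) x (h.ef H.el), hF e f x h, sp_ef H.el h] at h5
  obtain ⟨h6, -, -⟩ := sp_inj H.el h h5
  have h7 : W e f * W e f = 1 := by
    rw [hF e f x h]
    revert h2 h4 h6
    cases a <;> cases b <;> cases c <;> simp [sp, pw]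
  rw [← hq]
  exact qq_one.2 (H.one _ (hWT e f x h) h7)

/-- `U(e,f) ≡ U(f,e) U(ef,e)` -/
theorem Sys.line' (S : Sys E T U) (H : TT E T) {e f x : G} (h : Bs E e f x) :
    qq E (U e f) = qq E (U f e * U (e * f) e) := by
  have h1 := S.line H h
  have h2 := H.qsq (S.mem _ _ _ h)
  rw [map_mul]
  calc qq E (U e f) = qq E (U e f) * (qq E (U e f) * qq E (U f e) * qq E (U (e * f) e)) := by
        rw [h1, mul_one]
    _ = (qq E (U e f) * qq E (U e f)) * (qq E (U f e) * qq E (U (e * f) e)) := by group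
    _ = _ := by rw [h2, one_mul]

theorem Sys.cm_mem (H : TT E T) {s t : G} (hs : s ∈ T) (ht : t ∈ T) : cm s t ∈ E := H.com s hs t ht

theorem TT.cc (H : TT E T) {s s' t t' : G} (hs : s ∈ T) (ht : t ∈ T) (h : qq E s = qq E s')
    (h' : qq E t = qq E t') : cm s t = cm s' t' := by
  rw [H.ccongr hs ht h, H.ccongr' (H.mem_of_q hs h) ht h']

/-- `U(e,f)` and `U(e,x)` commute -/
theorem Sys.comm1 (S : Sys E T U) (H : TT E T) {e f x : G} (h : Bs E e f x) :
    cm (U e f) (U e x) = 1 := by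
  have m := S.mem
  obtain ⟨a, b, c, hF⟩ := const H.el H.full (F := fun e f x => cm (U e f) (U e x))
    (fun e f x h => H.com _ (m _ _ _ h) _ (m _ _ _ (h.s23 H.el))) (by
      intro g e f x h
      show g * cm (U e f) (U e x) * g⁻¹ = _
      rw [cm_conj]
      exact H.cc (H.Tn.conj_mem _ (m _ _ _ h) g) (H.Tn.conj_mem _ (m _ _ _ (h.s23 H.el)) g)
        (S.eqv g e f x h) (S.eqv g e x f (h.s23 H.el)))
  obtain ⟨c1, c2, c3, hY⟩ := const H.el H.full (F := fun e f x => cm (U e f) (U f x))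
    (fun e f x h => H.com _ (m _ _ _ h) _ (m _ _ _ ((h.s12 H.el).s23 H.el))) (by
      intro g e f x h
      show g * cm (U e f) (U f x) * g⁻¹ = _
      rw [cm_conj]
      exact H.cc (H.Tn.conj_mem _ (m _ _ _ h) g) (H.Tn.conj_mem _ (m _ _ _ ((h.s12 H.el).s23 H.el)) g)
        (S.eqv g e f x h) (S.eqv g f x e ((h.s12 H.el).s23 H.el)))
  obtain ⟨d1, d2, d3, hZ⟩ := const H.el H.full (F := fun e f x => cm (U e f) (U x f))
    (fun e f x h => H.com _ (m _ _ _ h) _ (m _ _ _ ((h.s12 H.el).s23 H.el |>.s12 H.el))) (by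
      intro g e f x h
      show g * cm (U e f) (U x f) * g⁻¹ = _
      rw [cm_conj]
      exact H.cc (H.Tn.conj_mem _ (m _ _ _ h) g)
        (H.Tn.conj_mem _ (m _ _ _ ((h.s12 H.el).s23 H.el |>.s12 H.el)) g)
        (S.eqv g e f x h) (S.eqv g x f e ((h.s12 H.el).s23 H.el |>.s12 H.el)))
  -- `b = c = false`
  have k1 : cm (U e f) (U e (e * x)) = cm (U e f) (U e x) :=
    H.cc (m _ _ _ h) (m _ _ _ ((h.s23 H.el).ef H.el)) rfl (S.flg e x f (h.s23 H.el))
  rw [hF e f (e * x) (h.ex H.el), hF e f x h, sp_ex H.el h] at k1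
  obtain ⟨k1, -, -⟩ := sp_inj H.el h k1
  have k2 : cm (U e (e * f)) (U e x) = cm (U e f) (U e x) :=
    H.cc (m _ _ _ (h.ef H.el)) (m _ _ _ (h.s23 H.el)) (S.flg e f x h) rfl
  rw [hF e (e * f) x (h.ef H.el), hF e f x h, sp_ef H.el h] at k2
  obtain ⟨k2, -, -⟩ := sp_inj H.el h k2
  -- relation on the first line
  have h21 := h.s12 H.el
  have h23 := h21.s23 H.el
  have r1 : cm (U e f) (U f x) = cm (U f e) (U f x) * cm (U (e * f) f) (U f x) := by
    have hm : U (e * f) f ∈ T := m _ _ _ (h.ef1 H.el)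
    rw [← H.cmul (m _ _ _ h21) hm (m _ _ _ h23)]
    refine H.cc (m _ _ _ h) (m _ _ _ h23) ?_ rfl
    rw [S.line' H h, map_mul, map_mul, S.flg' H h]
  rw [hY e f x h, hF f e x h21, hY (e * f) f x (h.ef1 H.el), sp_fe H.el h, sp_12 H.el h, sp_mul H.el h] at r1
  obtain ⟨r1, r2, r3⟩ := sp_inj H.el h r1
  -- relation on the second line
  have h3 : Bs E f x e := h23
  have r4 : cm (U e f) (U f x) = cm (U e f) (U x f) * cm (U e f) (U (f * x) f) := by
    have hm : U (f * x) f ∈ T := m _ _ _ (Sys.bs' H h3)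
    rw [← H.cmul' (m _ _ _ h) (m _ _ _ (h3.s12 H.el)) hm]
    exact H.cc (m _ _ _ h) (m _ _ _ h23) rfl (S.line' H h3)
  rw [hY e f x h, hZ e f x h, hZ e f (f * x) (h.fx H.el), sp_fx H.el h, sp_mul H.el h] at r4
  obtain ⟨r4, r5, r6⟩ := sp_inj H.el h r4
  rw [hF e f x h]
  revert k1 k2 r1 r2 r3 r4 r5 r6
  clear hF hY hZ
  cases a <;> cases b <;> cases c <;> cases c1 <;> cases c2 <;> cases d1 <;> simp [sp, pw]

/-- independence of the second point -/
theorem Sys.indep (S : Sys E T U) (H : TT E T) {e f x f' x' : G} (h : Bs E e f x)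
    (h' : Bs E e f' x') : qq E (U e f) = qq E (U e f') := by
  have key : ∀ f x, Bs E e f x → qq E (U e f) = qq E (U e x) := by
    intro f x h
    have m1 := S.mem _ _ _ h
    have m2 := S.mem _ _ _ (h.s23 H.el)
    have h1 : U e f * U e x * (U e f * U e x) = 1 := by
      rw [H.sqmul m1 m2, S.comm1 H h, S.sq _ _ _ h, S.sq _ _ _ (h.s23 H.el), H.el.sq e h.he, mul_one]
    have h2 := qq_one.2 (H.one _ (T.mul_mem m1 m2) h1)
    rw [map_mul] at h2
    calc qq E (U e f) = qq E (U e f) * (qq E (U e x) * qq E (U e x)) := by rw [H.qsq m2, mul_one]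
      _ = (qq E (U e f) * qq E (U e x)) * qq E (U e x) := by group
      _ = _ := by rw [h2, one_mul]
  by_cases h1 : f' = f
  · rw [h1]
  by_cases h2 : f' = e * f
  · rw [h2]; exact (S.flg e f x h).symm
  · exact key f f' ⟨h.he, h.hf, h'.hf, h.e1, h.f1, h.fe, h'.f1, h'.fe, h1, h2⟩

end

end H30.PyrN
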