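import Cfsg.Agent.Lib.H30.PyrN4

set_option autoImplicit false

/-!
S3930 (helper73), piece B-NA: the additive system `v(e)` and the final contradiction.
-/

namespace H30.PyrN

open Subgroup H73.Pyr
open scoped commutatorElement

variable {G : Type*} [Group G]

section
variable {E T : Subgroup G} [hEn : E.Normal]

theorem exists_bs1 (hE : El E) {e : G} (he : e ∈ E) (e1 : e ≠ 1) : ∃ f x, Bs E e f x := by
  classical
  obtain ⟨f, hf, f1, fe⟩ : ∃ f ∈ E, f ≠ 1 ∧ f ≠ e := by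
    by_contra hcon
    push Not at hcon
    haveI : Finite E := Nat.finite_of_card_ne_zero (by rw [hE.card]; norm_num)
    have h1 : (E : Set G) ⊆ (({1, e} : Finset G) : Set G) := by
      intro x hx
      by_contra h2
      simp only [Finset.coe_insert, Finset.coe_singleton, Set.mem_insert_iff, Set.mem_singleton_iff,
        not_or] at h2
      exact h2.2 (hcon x hx h2.1)
    have h3 := Set.ncard_le_ncard h1 (Finset.finite_toSet _)
    rw [Set.ncard_coe_finset] at h3
    have h4 : (E : Set G).ncard = 8 := hE.card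
    have h5 : ({1, e} : Finset G).card ≤ 2 := Finset.card_le_two
    omega
  obtain ⟨x, hx⟩ := exists_bs hE he hf e1 f1 fe
  exact ⟨f, x, hx⟩

structure Vs (E T : Subgroup G) [E.Normal] (v : G → G) : Prop where
  mem : ∀ e ∈ E, e ≠ 1 → v e ∈ T
  sq : ∀ e ∈ E, e ≠ 1 → v e * v e = e
  eqv : ∀ g, ∀ e ∈ E, e ≠ 1 → qq E (g * v e * g⁻¹) = qq E (v (g * e * g⁻¹))
  add : ∀ e ∈ E, ∀ f ∈ E, e ≠ 1 → f ≠ 1 → f ≠ e → qq E (v (e * f)) = qq E (v e * v f)

theorem TT.exists_vs [Finite G] (H : TT E T) : ∃ v, Vs E T v := by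
  classical
  obtain ⟨U, S⟩ := H.exists_sys
  let v : G → G := fun e => if h : ∃ f x, Bs E e f x then U e h.choose else 1
  have hv : ∀ e f x, Bs E e f x → ∃ f' x', Bs E e f' x' ∧ v e = U e f' := by
    intro e f x h
    have h1 : ∃ f x, Bs E e f x := ⟨f, x, h⟩
    refine ⟨h1.choose, h1.choose_spec.choose, h1.choose_spec.choose_spec, ?_⟩
    show (if h : ∃ f x, Bs E e f x then U e h.choose else 1) = _
    rw [dif_pos h1]
  have hq : ∀ e f x, Bs E e f x → qq E (v e) = qq E (U e f) := by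
    intro e f x h
    obtain ⟨f', x', h', h1⟩ := hv e f x h
    rw [h1]
    exact S.indep H h' h
  refine ⟨v, ?_, ?_, ?_, ?_⟩
  · intro e he e1
    obtain ⟨f, x, h⟩ := exists_bs1 H.el he e1
    obtain ⟨f', x', h', h1⟩ := hv e f x h
    rw [h1]; exact S.mem _ _ _ h'
  · intro e he e1
    obtain ⟨f, x, h⟩ := exists_bs1 H.el he e1
    obtain ⟨f', x', h', h1⟩ := hv e f x h
    rw [h1]; exact S.sq _ _ _ h'
  · intro g e he e1
    obtain ⟨f, x, h⟩ := exists_bs1 H.el he e1
    rw [conj_q g (hq e f x h), S.eqv g e f x h, hq _ _ _ (h.conj hEn g)]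
  · intro e he f hf e1 f1 fe
    obtain ⟨x, h⟩ := exists_bs H.el he hf e1 f1 fe
    have h1 := S.line H h
    rw [← hq e f x h, ← hq f e x (h.s12 H.el), ← hq (e * f) e x (Sys.bs' H h), ← map_mul] at h1
    have hm : v (e * f) ∈ T := by
      obtain ⟨f', x', h', h2⟩ := hv _ _ _ (Sys.bs' H h)
      rw [h2]; exact S.mem _ _ _ h'
    calc qq E (v (e * f)) = 1 * qq E (v (e * f)) := by rw [one_mul]
      _ = qq E (v e * v f) * (qq E (v (e * f)) * qq E (v (e * f))) := by rw [← h1]; group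
      _ = _ := by rw [H.qsq hm, mul_one]

variable {v : G → G}

theorem Vs.comm (V : Vs E T v) (H : TT E T) {e f : G} (he : e ∈ E) (hf : f ∈ E) (e1 : e ≠ 1)
    (f1 : f ≠ 1) : cm (v e) (v f) = 1 := by
  by_cases fe : f = e
  · rw [fe]; unfold cm; group
  have m1 := V.mem e he e1
  have m2 := V.mem f hf f1
  have hef1 : e * f ≠ 1 := H.el.mul_ne_one he fe
  have h1 := H.sqcongr (T.mul_mem m1 m2) (V.add e he f hf e1 f1 fe).symm
  rw [H.sqmul m1 m2, V.sq _ he e1, V.sq _ hf f1, V.sq _ (E.mul_mem he hf) hef1] at h1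
  exact mul_eq_left.1 h1

/-- `[v(e), gtg⁻¹] = g [v(g⁻¹eg), t] g⁻¹` -/
theorem Vs.cmg (V : Vs E T v) (H : TT E T) {e t g : G} (he : e ∈ E) (e1 : e ≠ 1) (ht : t ∈ T) :
    cm (v (g * e * g⁻¹)) (g * t * g⁻¹) = g * cm (v e) t * g⁻¹ := by
  rw [cm_conj]
  have hm := H.Tn.conj_mem _ (V.mem e he e1) g
  exact (H.ccongr hm (H.Tn.conj_mem _ ht g) (V.eqv g e he e1)).symm

/-- the commutator map -/
def psi (H : TT E T) {u : G} (hu : u ∈ T) : T →* G where
  toFun t := cm u t
  map_one' := by unfold cm; simp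
  map_mul' a b := H.cmul' hu a.2 b.2

theorem card_eq [Finite G] (H : TT E T) {u : G} (hu : u ∈ T) :
    Nat.card T = Nat.card (T ⊓ centralizer ({u} : Set G) : Subgroup G) * Nat.card (psi H hu).range := by
  rw [← (psi H hu).ker.card_mul_index, Subgroup.index_ker]
  congr 1
  have h1 : (psi H hu).ker.map T.subtype = T ⊓ centralizer ({u} : Set G) := by
    ext y
    constructor
    · rintro ⟨t, ht, rfl⟩
      refine ⟨t.2, mem_centralizer_singleton_iff.2 ?_⟩
      have h2 : u * t * u⁻¹ * (t : G)⁻¹ = 1 := ht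
      have h3 : u * (t : G) = (u * t * u⁻¹ * (t : G)⁻¹) * (t * u) := by group
      show (t : G) * u = u * t
      rw [h3, h2, one_mul]
    · rintro ⟨h2, h3⟩
      refine ⟨⟨y, h2⟩, ?_, rfl⟩
      have h4 : y * u = u * y := mem_centralizer_singleton_iff.1 h3
      show u * y * u⁻¹ * y⁻¹ = 1
      rw [← h4]; group
  rw [← h1]
  exact (Subgroup.card_map_of_injective T.subtype_injective).symm

theorem mem_K {u t : G} (ht : t ∈ T) : t ∈ T ⊓ centralizer ({u} : Set G) ↔ cm u t = 1 := by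
  constructor
  · rintro ⟨-, h3⟩
    have h4 : t * u = u * t := mem_centralizer_singleton_iff.1 h3
    unfold cm
    rw [← h4]; group
  · intro h2
    refine ⟨ht, mem_centralizer_singleton_iff.2 ?_⟩
    have h3 : u * t = (cm u t) * (t * u) := by unfold cm; group
    show t * u = u * t
    rw [h3, h2, one_mul]

theorem Vs.not_big [Finite G] (V : Vs E T v) (H : TT E T) (h2 : TTr E)
    (hcard : Nat.card T = 64 ∨ Nat.card T = 512) {e t : G} (he : e ∈ E) (e1 : e ≠ 1) (ht : t ∈ T)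
    (hf1 : cm (v e) t ≠ 1) (hfe : cm (v e) t ≠ e) : False := by
  classical
  -- all ranges are `E`
  have hr : ∀ x ∈ E, ∀ x1 : x ≠ 1, ∀ y ∈ E, ∃ s ∈ T, cm (v x) s = y := by
    have key : ∀ x ∈ E, x ≠ 1 → ∀ y ∈ E, y ≠ 1 → y ≠ x → ∃ s ∈ T, cm (v x) s = y := by
      intro x hx x1 y hy y1 yx
      have hm := H.com _ (V.mem e he e1) t ht
      obtain ⟨g, h3, h4⟩ := h2 e he _ hm x hx y hy e1 hf1 hfe.symm x1 y1 yx.symm
      refine ⟨g * t * g⁻¹, H.Tn.conj_mem _ ht g, ?_⟩
      have h5 := V.cmg H (g := g) he e1 ht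
      rw [h3, h4] at h5
      exact h5
    intro x hx x1 y hy
    by_cases y1 : y = 1
    · exact ⟨1, T.one_mem, by rw [y1]; unfold cm; group⟩
    by_cases yx : y = x
    · obtain ⟨f, z, hb⟩ := exists_bs1 H.el hx x1
      obtain ⟨s, hs, hs'⟩ := key x hx x1 f hb.hf hb.f1 hb.fe
      obtain ⟨s2, hs2, hs2'⟩ := key x hx x1 (f * x) (E.mul_mem hb.hf hx)
        (H.el.mul_ne_one hb.hf (Ne.symm hb.fe)) (mul_ne_right hb.f1)
      refine ⟨s * s2, T.mul_mem hs hs2, ?_⟩
      rw [H.cmul' (V.mem x hx x1) hs hs2, hs', hs2', H.el.cancel hb.hf, yx]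
    · exact key x hx x1 y hy y1 yx
  have hrc : ∀ x (hx : x ∈ E) (x1 : x ≠ 1), Nat.card (psi H (V.mem x hx x1)).range = 8 := by
    intro x hx x1
    have h3 : (psi H (V.mem x hx x1)).range = E := by
      ext y
      constructor
      · rintro ⟨s, rfl⟩
        exact H.com _ (V.mem x hx x1) _ s.2
      · intro hy
        obtain ⟨s, hs, hs'⟩ := hr x hx x1 y hy
        exact ⟨⟨s, hs⟩, hs'⟩
    rw [h3, H.el.card]
  -- the kernels contain at least 64 common elements
  have h64 : ∀ x (hx : x ∈ E) (x1 : x ≠ 1) y (hy : y ∈ E) (y1 : y ≠ 1),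
      64 ≤ Nat.card ((T ⊓ centralizer ({v x} : Set G)) ⊓ (T ⊓ centralizer ({v y} : Set G)) : Subgroup G) := by
    intro x hx x1 y hy y1
    let w : E → G := fun a => if (a : G) = 1 then 1 else v a
    have hw : ∀ a : E, w a ∈ T := by
      intro a
      show (if (a : G) = 1 then (1 : G) else v a) ∈ T
      split_ifs with h
      · exact T.one_mem
      · exact V.mem a a.2 h
    have hwsq : ∀ a : E, w a * w a = a := by
      intro a
      show (if (a : G) = 1 then (1 : G) else v a) * (if (a : G) = 1 then (1 : G) else v a) = a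
      split_ifs with h
      · rw [h, one_mul]
      · exact V.sq a a.2 h
    have hwc : ∀ z ∈ E, z ≠ 1 → ∀ a : E, cm (v z) (w a) = 1 := by
      intro z hz z1 a
      show cm (v z) (if (a : G) = 1 then (1 : G) else v a) = 1
      split_ifs with h
      · unfold cm; group
      · exact V.comm H hz a.2 z1 h
    have hmem : ∀ z ∈ E, z ≠ 1 → ∀ p : E × E, w p.1 * (p.2 : G) ∈ T ⊓ centralizer ({v z} : Set G) := by
      intro z hz z1 p
      have h5 : w p.1 * (p.2 : G) ∈ T := T.mul_mem (hw _) (H.ET p.2.2)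
      rw [mem_K h5, H.cmul' (V.mem z hz z1) (hw _) (H.ET p.2.2), hwc z hz z1, one_mul,
        H.cinv (V.mem z hz z1) (H.ET p.2.2), H.cE1 p.2.2 (V.mem z hz z1)]
    let φ : E × E → ((T ⊓ centralizer ({v x} : Set G)) ⊓ (T ⊓ centralizer ({v y} : Set G)) : Subgroup G) :=
      fun p => ⟨w p.1 * (p.2 : G), hmem x hx x1 p, hmem y hy y1 p⟩
    have hφ : Function.Injective φ := by
      rintro ⟨a, b⟩ ⟨a', b'⟩ h0
      have h5 : w a * (b : G) = w a' * (b' : G) := congrArg Subtype.val h0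
      have hs : ∀ (a b : E), w a * (b : G) * (w a * (b : G)) = a := by
        intro a b
        rw [H.sqmul (hw a) (H.ET b.2), H.cinv (hw a) (H.ET b.2), H.cE1 b.2 (hw a), H.el.sq _ b.2,
          mul_one, mul_one, hwsq]
      have h6 : (a : G) = a' := by rw [← hs a b, h5, hs]
      have h7 : a = a' := Subtype.ext h6
      subst h7
      have h8 : b = b' := Subtype.ext (mul_left_cancel h5)
      rw [h8]
    have h9 := Nat.card_le_card_of_injective φ hφ
    rwa [Nat.card_prod, H.el.card] at h9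
  have hK64 : ∀ x (hx : x ∈ E) (x1 : x ≠ 1), Nat.card (T ⊓ centralizer ({v x} : Set G) : Subgroup G) = 64 := by
    intro x hx x1
    have h3 := card_eq H (V.mem x hx x1)
    rw [hrc x hx x1] at h3
    have h4 := h64 x hx x1 x hx x1
    rw [inf_idem] at h4
    omega
  have hKK : ∀ x (hx : x ∈ E) (x1 : x ≠ 1) y (hy : y ∈ E) (y1 : y ≠ 1), ∀ s ∈ T, cm (v x) s = 1 →
      cm (v y) s = 1 := by
    intro x hx x1 y hy y1 s hs h3
    have h4 : (T ⊓ centralizer ({v x} : Set G)) ⊓ (T ⊓ centralizer ({v y} : Set G)) =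
        T ⊓ centralizer ({v x} : Set G) :=
      Subgroup.eq_of_le_of_card_ge inf_le_left (by rw [hK64 x hx x1]; exact h64 x hx x1 y hy y1)
    have h5 : s ∈ T ⊓ centralizer ({v x} : Set G) := (mem_K hs).2 h3
    rw [← h4] at h5
    exact (mem_K hs).1 h5.2
  -- the transvection
  obtain ⟨f, hf⟩ : ∃ f, f = cm (v e) t := ⟨_, rfl⟩
  have hfE : f ∈ E := by rw [hf]; exact H.com _ (V.mem e he e1) t ht
  rw [← hf] at hf1 hfe
  obtain ⟨g, hg⟩ := tn H.el hEn h2 he hfE e1 hf1 hfe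
  obtain ⟨x, hx⟩ := exists_bs H.el he hfE e1 hf1 hfe
  have me := V.mem e he e1
  have mx := V.mem x hx.hx hx.x1
  have htg : g * t * g⁻¹ ∈ T := H.Tn.conj_mem _ ht g
  have h3 : cm (v e) (g * t * g⁻¹) = f := by
    have := V.cmg H (g := g) he e1 ht
    rw [hg.ge, ← hf, hg.gf] at this
    exact this
  have hs : t * (g * t * g⁻¹) ∈ T := T.mul_mem ht htg
  have h4 : cm (v e) (t * (g * t * g⁻¹)) = 1 := by
    rw [H.cmul' me ht htg, h3, ← hf, H.el.sq f hfE]
  have h5 := hKK e he e1 x hx.hx hx.x1 _ hs h4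
  rw [H.cmul' mx ht htg] at h5
  obtain ⟨y, hy⟩ : ∃ y, y = cm (v x) t := ⟨_, rfl⟩
  have hyE : y ∈ E := by rw [hy]; exact H.com _ mx t ht
  rw [← hy] at h5
  have h6 : cm (v x) (g * t * g⁻¹) = y := by
    have := eq_inv_of_mul_eq_one_right h5
    rwa [H.el.inv hyE] at this
  have h7 : g * y * g⁻¹ = y * f := by
    have h8 := V.cmg H (g := g) hx.hx hx.x1 ht
    rw [hg.gx x hx, ← hy] at h8
    rw [← h8]
    have hxe := V.add x hx.hx e he hx.x1 e1 (Ne.symm hx.xe)
    have hxe1 : x * e ≠ 1 := H.el.mul_ne_one hx.hx (Ne.symm hx.xe)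
    rw [H.ccongr (V.mem _ (E.mul_mem hx.hx he) hxe1) htg hxe, H.cmul mx me htg, h6, h3]
  obtain ⟨a, b, c, hab⟩ := span H.el hx hyE
  have h9 : y * f = sp e f x a (!b) c := by
    rw [hab]
    have : f = sp e f x false true false := by simp [sp, pw]
    nth_rewrite 2 [this]
    rw [sp_mul H.el hx]
    simp
  have h10 : g * y * g⁻¹ = sp e f x (a ^^ c) b c := by
    rw [hab, conj_sp, hg.ge, hg.gf, hg.gx x hx, H.el.comm _ hx.hx _ he, sp_ex H.el hx]
  rw [h9, h10] at h7
  obtain ⟨-, h11, -⟩ := sp_inj H.el hx h7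
  revert h11
  cases b <;> simp

end

end H30.PyrN
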