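import Cfsg.Agent.Lib.H30.PyrN5
import Cfsg.Agent.Lib.H16.SuzMain

set_option autoImplicit false

/-!
S3930 (helper73), piece B-NA: the remaining small case and the theorem.
-/

namespace H30.PyrN

open Subgroup H73.Pyr
open scoped commutatorElement

section
variable {G : Type*} [Group G] {E T : Subgroup G} [hEn : E.Normal] {v : G → G}

theorem Vs.not_small [Finite G] (V : Vs E T v) (H : TT E T) (h2 : TTr E)
    (hZ : ∀ t ∈ T, (∀ s ∈ T, t * s = s * t) → t ∈ E)
    (hs : ∀ e ∈ E, e ≠ 1 → ∀ t ∈ T, cm (v e) t = 1 ∨ cm (v e) t = e) : False := by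
  classical
  haveI : Fact (Nat.Prime 2) := ⟨Nat.prime_two⟩
  obtain ⟨e, he, e1⟩ : ∃ e ∈ E, e ≠ 1 := by
    by_contra hcon
    push Not at hcon
    have : E = ⊥ := by rw [eq_bot_iff]; intro y hy; exact hcon y hy
    have h1 := H.el.card
    rw [this, card_bot] at h1
    omega
  have me := V.mem e he e1
  -- all kernels agree
  have hKK : ∀ x ∈ E, x ≠ 1 → ∀ y ∈ E, y ≠ 1 → ∀ s ∈ T, cm (v x) s = 1 → cm (v y) s = 1 := by
    intro x hx x1 y hy y1 s hsT h3
    by_cases hxy : y = x
    · rw [hxy]; exact h3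
    rcases hs y hy y1 s hsT with h4 | h4
    · exact h4
    exfalso
    have hxy1 : x * y ≠ 1 := H.el.mul_ne_one hx hxy
    have h5 : cm (v (x * y)) s = y := by
      rw [H.ccongr (V.mem _ (E.mul_mem hx hy) hxy1) hsT (V.add x hx y hy x1 y1 hxy),
        H.cmul (V.mem x hx x1) (V.mem y hy y1) hsT, h3, h4, one_mul]
    rcases hs (x * y) (E.mul_mem hx hy) hxy1 s hsT with h6 | h6
    · rw [h5] at h6; exact y1 h6
    · rw [h5] at h6; exact x1 (mul_eq_right.1 h6.symm)
  -- some element is outside
  obtain ⟨t0, ht0, ht0'⟩ : ∃ t ∈ T, cm (v e) t ≠ 1 := by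
    by_contra hcon
    push Not at hcon
    have h3 : v e ∈ E := by
      apply hZ _ me
      intro s hsT
      have h4 := hcon s hsT
      have h5 : v e * s = cm (v e) s * (s * v e) := by unfold cm; group
      rw [h5, h4, one_mul]
    have h6 := H.el.sq _ h3
    rw [V.sq e he e1] at h6
    exact e1 h6
  have hrange : Nat.card (psi H me).range = 2 := by
    have h3 : (psi H me).range = zpowers e := by
      ext y
      constructor
      · rintro ⟨s, rfl⟩
        rcases hs e he e1 s s.2 with h4 | h4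
        · show cm (v e) s ∈ _
          rw [h4]; exact one_mem _
        · show cm (v e) s ∈ _
          rw [h4]; exact mem_zpowers e
      · rintro ⟨n, rfl⟩
        have h4 : e ∈ (psi H me).range := by
          rcases hs e he e1 t0 ht0 with h4 | h4
          · exact absurd h4 ht0'
          · exact ⟨⟨t0, ht0⟩, h4⟩
        exact zpow_mem h4 n
    rw [h3, Nat.card_zpowers, orderOf_eq_prime (by rw [pow_two]; exact H.el.sq e he) e1]
  have hcT := card_eq H me
  rw [hrange] at hcT
  obtain ⟨n, hn⟩ := (IsPGroup.iff_card.1 H.p2)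
  -- the elements outside the kernel
  set S : Finset G := (Set.toFinite {t : G | t ∈ T ∧ cm (v e) t ≠ 1}).toFinset with hS
  have hSm : ∀ t, t ∈ S ↔ t ∈ T ∧ cm (v e) t ≠ 1 := by
    intro t; rw [hS]; simp
  have hcardS : S.card = Nat.card (T ⊓ centralizer ({v e} : Set G) : Subgroup G) := by
    have h3 : S.card + Nat.card (T ⊓ centralizer ({v e} : Set G) : Subgroup G) = Nat.card T := by
      set K := T ⊓ centralizer ({v e} : Set G) with hK
      have h4 : (T : Set G).ncard = Nat.card T := rfl
      have h5 : (K : Set G).ncard = Nat.card K := rfl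
      rw [← h4, ← h5, ← Set.ncard_coe_finset, ← Set.ncard_union_eq]
      · congr 1
        ext t
        constructor
        · rintro (h6 | h6)
          · exact ((hSm t).1 h6).1
          · exact h6.1
        · intro h6
          by_cases h7 : cm (v e) t = 1
          · right; exact (mem_K h6).2 h7
          · left; exact (hSm t).2 ⟨h6, h7⟩
      · rw [Set.disjoint_left]
        intro t h6 h7
        exact ((hSm t).1 h6).2 ((mem_K h7.1).1 h7)
    omega
  -- squares
  have hsqE : ∀ t ∈ S, t * t ∈ E ∧ t * t ≠ 1 := by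
    intro t ht
    obtain ⟨h3, h4⟩ := (hSm t).1 ht
    refine ⟨H.sqE t h3, fun h5 => h4 ?_⟩
    have h6 := H.one t h3 h5
    rw [H.cinv me h3, H.cE1 h6 me]
  haveI := Fintype.ofFinite E
  set E1 : Finset G := (Set.toFinite {a : G | a ∈ E ∧ a ≠ 1}).toFinset with hE1
  have hE1m : ∀ a, a ∈ E1 ↔ a ∈ E ∧ a ≠ 1 := by
    intro a; rw [hE1]; simp
  have hE1c : E1.card = 7 := by
    have h3 : insert 1 E1 = (Set.toFinite (E : Set G)).toFinset := by
      ext a
      rw [Finset.mem_insert, hE1m]
      simp only [Set.Finite.mem_toFinset, SetLike.mem_coe]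
      constructor
      · rintro (rfl | h)
        · exact E.one_mem
        · exact h.1
      · intro h
        by_cases h1 : a = 1
        · exact Or.inl h1
        · exact Or.inr ⟨h, h1⟩
    have h4 : (insert 1 E1).card = E1.card + 1 := Finset.card_insert_of_notMem (by
      rw [hE1m]; simp)
    have h5 : (Set.toFinite (E : Set G)).toFinset.card = 8 := by
      rw [← Set.ncard_eq_toFinset_card (E : Set G) (Set.toFinite _)]
      exact H.el.card
    rw [h3, h5] at h4
    omega
  have hfib : S.card = ∑ a ∈ E1, (S.filter (fun t => t * t = a)).card :=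
    Finset.card_eq_sum_card_fiberwise (fun t ht => (hE1m _).2 (hsqE t ht))
  have hconst : ∀ a ∈ E1, (S.filter (fun t => t * t = a)).card = (S.filter (fun t => t * t = e)).card := by
    have key : ∀ a ∈ E1, ∀ b ∈ E1, (S.filter (fun t => t * t = a)).card ≤ (S.filter (fun t => t * t = b)).card := by
      intro a ha b hb
      obtain ⟨haE, a1⟩ := (hE1m a).1 ha
      obtain ⟨hbE, b1⟩ := (hE1m b).1 hb
      obtain ⟨g, hg⟩ : ∃ g : G, g * a * g⁻¹ = b := by
        obtain ⟨f, x, h3⟩ := exists_bs1 H.el haE a1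
        obtain ⟨f', x', h3'⟩ := exists_bs1 H.el hbE b1
        obtain ⟨g, hg, -, -⟩ := H.full _ _ _ _ _ _ h3 h3'
        exact ⟨g, hg⟩
      apply Finset.card_le_card_of_injOn (fun t => g * t * g⁻¹)
      · intro t ht
        obtain ⟨h3, h4⟩ := Finset.mem_filter.1 ht
        obtain ⟨h5, h6⟩ := (hSm t).1 h3
        refine Finset.mem_coe.2 (Finset.mem_filter.2 ⟨(hSm _).2 ⟨H.Tn.conj_mem _ h5 g, ?_⟩, ?_⟩)
        · intro h7
          apply h6
          have h8 : g⁻¹ * e * g⁻¹⁻¹ ∈ E := hEn.conj_mem _ he _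
          have h9 : g⁻¹ * e * g⁻¹⁻¹ ≠ 1 := fun h0 => e1 (conj_eq_one.1 h0)
          have h10 := V.cmg H (g := g) h8 h9 h5
          have h11 : g * (g⁻¹ * e * g⁻¹⁻¹) * g⁻¹ = e := by group
          rw [h11] at h10
          have h12 : cm (v (g⁻¹ * e * g⁻¹⁻¹)) t = 1 := by
            rw [h7] at h10
            exact conj_eq_one.1 h10.symm
          exact hKK _ h8 h9 e he e1 t h5 h12
        · show g * t * g⁻¹ * (g * t * g⁻¹) = b
          rw [← conj_mul, h4, hg]
      · intro s _ t _ h3
        exact conj_inj h3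
    intro a ha
    have he' : e ∈ E1 := (hE1m e).2 ⟨he, e1⟩
    exact le_antisymm (key a ha e he') (key e he' a ha)
  rw [Finset.sum_congr rfl hconst, Finset.sum_const, hE1c, smul_eq_mul] at hfib
  -- contradiction
  have h7 : 7 ∣ Nat.card T := by
    rw [hcT, ← hcardS, hfib]
    exact ⟨(S.filter (fun t => t * t = e)).card * 2, by ring⟩
  rw [hn] at h7
  have h8 := (Nat.Prime.dvd_of_dvd_pow (by norm_num : Nat.Prime 7) h7)
  exact absurd h8 (by norm_num)

end

end H30.PyrN
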