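import Cfsg.Agent.Lib.H30.PyrN6

set_option autoImplicit false

/-!
S3930 (helper73), piece B-NA: the theorem.
-/

namespace H30.PyrN

open Subgroup H73.Pyr
open scoped commutatorElement

universe u

section
variable {G : Type u} [Group G] [Finite G] {E : Subgroup G}

theorem dvd7 (hE : El E) (hn : E.Normal) (h2 : TTr E) : 7 ∣ Nat.card G := by
  obtain ⟨e, he, e1⟩ : ∃ e ∈ E, e ≠ 1 := by
    by_contra hcon
    push Not at hcon
    have : E = ⊥ := by rw [eq_bot_iff]; intro y hy; exact hcon y hy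
    have h1 := hE.card
    rw [this, card_bot] at h1
    omega
  have h1 : MulAction.orbit (ConjAct G) e = (E : Set G) \ {1} := by
    ext y
    rw [ConjAct.mem_orbit_conjAct]
    constructor
    · intro h
      obtain ⟨g, hg⟩ := isConj_iff.1 h.symm
      rw [← hg]
      exact ⟨hn.conj_mem e he g, fun h0 => e1 (conj_eq_one.1 h0)⟩
    · rintro ⟨hy, y1⟩
      obtain ⟨f, x, h3⟩ := exists_bs1 hE he e1
      obtain ⟨f', x', h3'⟩ := exists_bs1 hE hy y1
      obtain ⟨g, hg, -, -⟩ := full hE hn h2 _ _ _ _ _ _ h3 h3'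
      exact (isConj_iff.2 ⟨g, hg⟩).symm
  have h3 := MulAction.index_stabilizer (ConjAct G) e
  rw [h1, Set.ncard_diff_singleton_of_mem (s := (E : Set G)) E.one_mem] at h3
  have h4 : (E : Set G).ncard = 8 := hE.card
  rw [h4] at h3
  have h5 := Subgroup.index_dvd_card (MulAction.stabilizer (ConjAct G) e)
  rw [h3] at h5
  exact h5

/-- an element of order 7 and its action -/
theorem exists_d (hE : El E) (hn : E.Normal) (h2 : TTr E)
    (hT : IsPGroup 2 (centralizer (E : Set G))) :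
    ∃ d : G, orderOf d = 7 ∧ (∀ e ∈ E, e ≠ 1 → ∀ n : ℤ, d ^ n * e * (d ^ n)⁻¹ = e → (7 : ℤ) ∣ n) ∧
      ∀ e ∈ E, ∀ f ∈ E, e ≠ 1 → f ≠ 1 → ∃ n : ℤ, d ^ n * e * (d ^ n)⁻¹ = f := by
  haveI : Fact (Nat.Prime 7) := ⟨by norm_num⟩
  obtain ⟨d, hd⟩ := exists_prime_orderOf_dvd_card' 7 (dvd7 hE hn h2)
  have hdT : d ∉ centralizer (E : Set G) := by
    intro h
    obtain ⟨k, hk⟩ := hT ⟨d, h⟩
    have h3 : d ^ 2 ^ k = 1 := congrArg Subtype.val hk
    have h4 := orderOf_dvd_of_pow_eq_one h3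
    rw [hd] at h4
    have h5 := (Nat.Prime.dvd_of_dvd_pow (by norm_num : Nat.Prime 7) h4)
    exact absurd h5 (by norm_num)
  obtain ⟨e0, he0, hne⟩ : ∃ e ∈ E, e * d ≠ d * e := by
    by_contra hcon
    push Not at hcon
    exact hdT (mem_centralizer_iff.2 fun e he => hcon e he)
  -- powers commuting with `e`
  have key : ∀ e : G, e * d ≠ d * e → ∀ n : ℤ, d ^ n * e * (d ^ n)⁻¹ = e → (7 : ℤ) ∣ n := by
    intro e hne n hn'
    by_contra h7
    have hc : IsCoprime n 7 := by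
      have := (Int.prime_iff_natAbs_prime.2 (by norm_num : Nat.Prime (Int.natAbs 7)))
      exact ((Prime.coprime_iff_not_dvd this).2 h7).symm
    obtain ⟨a, b, hab⟩ := hc
    apply hne
    have h3 : Commute (d ^ n) e := mul_inv_eq_iff_eq_mul.1 hn'
    have h4 : Commute ((d ^ n) ^ a) e := h3.zpow_left a
    have h5 : (d ^ n) ^ a = d := by
      have h6 : d ^ (7 : ℤ) = 1 := by
        have := pow_orderOf_eq_one d
        rw [hd] at this
        exact_mod_cast this
      calc (d ^ n) ^ a = d ^ (a * n) := by rw [← zpow_mul, mul_comm]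
        _ = d ^ (1 - b * 7) := by congr 1; omega
        _ = d := by rw [zpow_sub, zpow_one, mul_comm b 7, zpow_mul, h6, one_zpow, inv_one, mul_one]
    rw [h5] at h4
    exact h4.eq.symm
  have e01 : e0 ≠ 1 := by rintro rfl; exact hne (by rw [one_mul, mul_one])
  -- the orbit of `e0`
  have horb : ∀ f ∈ E, f ≠ 1 → ∃ n : ℤ, d ^ n * e0 * (d ^ n)⁻¹ = f := by
    classical
    haveI := Fintype.ofFinite G
    let φ : Fin 7 → ((E : Set G) \ {1} : Set G) := fun i =>
      ⟨d ^ (i : ℕ) * e0 * (d ^ (i : ℕ))⁻¹, hn.conj_mem _ he0 _, fun h0 => e01 (conj_eq_one.1 h0)⟩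
    have hinj : Function.Injective φ := by
      intro i j hij
      have h3 : d ^ (i : ℕ) * e0 * (d ^ (i : ℕ))⁻¹ = d ^ (j : ℕ) * e0 * (d ^ (j : ℕ))⁻¹ :=
        congrArg Subtype.val hij
      have h4 : d ^ ((j : ℤ) - i) * e0 * (d ^ ((j : ℤ) - i))⁻¹ = e0 := by
        have h5 : d ^ ((j : ℤ) - i) = (d ^ (i : ℕ))⁻¹ * d ^ (j : ℕ) := by
          rw [sub_eq_neg_add, zpow_add, zpow_neg, zpow_natCast, zpow_natCast]
        rw [h5]
        calc (d ^ (i : ℕ))⁻¹ * d ^ (j : ℕ) * e0 * ((d ^ (i : ℕ))⁻¹ * d ^ (j : ℕ))⁻¹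
            = (d ^ (i : ℕ))⁻¹ * (d ^ (j : ℕ) * e0 * (d ^ (j : ℕ))⁻¹) * d ^ (i : ℕ) := by group
          _ = (d ^ (i : ℕ))⁻¹ * (d ^ (i : ℕ) * e0 * (d ^ (i : ℕ))⁻¹) * d ^ (i : ℕ) := by rw [h3]
          _ = e0 := by group
      have h5 := key e0 hne _ h4
      have hi := i.2
      have hj := j.2
      apply Fin.ext
      omega
    have hc : Fintype.card (Fin 7) = Fintype.card ((E : Set G) \ {1} : Set G) := by
      rw [Fintype.card_fin, ← Nat.card_eq_fintype_card, Nat.card_coe_set_eq,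
        Set.ncard_diff_singleton_of_mem (s := (E : Set G)) E.one_mem]
      have h4 : (E : Set G).ncard = 8 := hE.card
      rw [h4]
    have hb := (Fintype.bijective_iff_injective_and_card φ).2 ⟨hinj, hc⟩
    intro f hf f1
    obtain ⟨i, hi⟩ := hb.2 ⟨f, hf, f1⟩
    exact ⟨(i : ℕ), by rw [zpow_natCast]; exact congrArg Subtype.val hi⟩
  have hfree : ∀ e ∈ E, e ≠ 1 → e * d ≠ d * e := by
    intro e he e1 h3
    obtain ⟨n, hn'⟩ := horb e he e1
    apply hne
    have h4 : Commute d e := h3.symm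
    have h5 : e0 = (d ^ n)⁻¹ * e * d ^ n := by rw [← hn']; group
    have h6 : Commute (d ^ n) e := h4.zpow_left n
    have h7 : e0 = e := by
      rw [h5, mul_assoc, ← h6.eq]; group
    rw [h7]; exact h3
  refine ⟨d, hd, fun e he e1 n hn' => key e (hfree e he e1) n hn', ?_⟩
  intro e he f hf e1 f1
  obtain ⟨n, hn'⟩ := horb e he e1
  obtain ⟨m, hm⟩ := horb f hf f1
  refine ⟨m - n, ?_⟩
  rw [zpow_sub, ← hm, ← hn']; group

theorem suz (hE : Big E) (h8 : Nat.card E = 8) (h2 : TTr E)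
    (hT : IsPGroup 2 (centralizer (E : Set G)))
    (hna : ∃ x ∈ centralizer (E : Set G), ∃ y ∈ centralizer (E : Set G), x * y ≠ y * x)
    (hTn : (centralizer (E : Set G)).Normal) :
    Cfsg.IsSuzukiTwoGroup (centralizer (E : Set G)) := by
  have hEl := El.of_big hE h8
  have hn := hE.nor
  obtain ⟨d, hd, h3, h4⟩ := exists_d hEl hn h2 hT
  have hET : E ≤ centralizer (E : Set G) := fun a ha =>
    mem_centralizer_iff.2 fun b hb => hEl.comm b hb a ha
  have hinv : ∀ x : centralizer (E : Set G), x ≠ 1 → x * x = 1 → (x : G) ∈ E ∧ (x : G) ≠ 1 := by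
    intro x x1 hx
    exact ⟨hE.inv x (congrArg Subtype.val hx), fun h0 => x1 (Subtype.ext h0)⟩
  have hcj : ∀ (n : ℤ) (x : centralizer (E : Set G)),
      (((MulAut.conjNormal d : MulAut (centralizer (E : Set G))) ^ n) x : G) = d ^ n * x * (d ^ n)⁻¹ := by
    intro n x
    rw [← map_zpow, MulAut.conjNormal_apply]
  refine ⟨inferInstance, hT, ?_, ?_, zpowers (MulAut.conjNormal d), inferInstance, ?_⟩
  · obtain ⟨x, hx, y, hy, hxy⟩ := hna
    exact ⟨⟨x, hx⟩, ⟨y, hy⟩, fun h0 => hxy (congrArg Subtype.val h0)⟩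
  · obtain ⟨e, he, e1⟩ : ∃ e ∈ E, e ≠ 1 := by
      by_contra hcon
      push Not at hcon
      have : E = ⊥ := by rw [eq_bot_iff]; intro y hy; exact hcon y hy
      have h1 := hEl.card
      rw [this, card_bot] at h1
      omega
    obtain ⟨f, x, h⟩ := exists_bs1 hEl he e1
    exact ⟨⟨e, hET he⟩, ⟨f, hET h.hf⟩, fun h0 => h.fe (congrArg Subtype.val h0).symm,
      fun h0 => e1 (congrArg Subtype.val h0), Subtype.ext (hEl.sq e he),
      fun h0 => h.f1 (congrArg Subtype.val h0), Subtype.ext (hEl.sq f h.hf)⟩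
  · intro x y x1 hx y1 hy
    obtain ⟨hxE, hx1⟩ := hinv x x1 hx
    obtain ⟨hyE, hy1⟩ := hinv y y1 hy
    obtain ⟨n, hn'⟩ := h4 x hxE y hyE hx1 hy1
    refine ⟨⟨(MulAut.conjNormal d) ^ n, zpow_mem (mem_zpowers _) n⟩, Subtype.ext ?_, ?_⟩
    · show (((MulAut.conjNormal d : MulAut (centralizer (E : Set G))) ^ n) x : G) = y
      rw [hcj, hn']
    · rintro ⟨k, hk⟩ hkx
      obtain ⟨m, rfl⟩ := mem_zpowers_iff.1 hk
      apply Subtype.ext
      show (MulAut.conjNormal d : MulAut (centralizer (E : Set G))) ^ m = (MulAut.conjNormal d) ^ n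
      have hkx' : (((MulAut.conjNormal d : MulAut (centralizer (E : Set G))) ^ m) x : G) = y :=
        congrArg Subtype.val hkx
      rw [hcj] at hkx'
      have h6 : d ^ (m - n) * (x : G) * (d ^ (m - n))⁻¹ = x := by
        have e1 : d ^ (m - n) = (d ^ n)⁻¹ * d ^ m := by
          rw [sub_eq_neg_add, zpow_add, zpow_neg]
        rw [e1]
        calc (d ^ n)⁻¹ * d ^ m * (x : G) * ((d ^ n)⁻¹ * d ^ m)⁻¹
            = (d ^ n)⁻¹ * (d ^ m * x * (d ^ m)⁻¹) * d ^ n := by group
          _ = (d ^ n)⁻¹ * (d ^ n * x * (d ^ n)⁻¹) * d ^ n := by rw [hkx', hn']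
          _ = x := by group
      obtain ⟨q, hq⟩ := h3 x hxE hx1 _ h6
      have h7 : d ^ (7 : ℤ) = 1 := by
        have := pow_orderOf_eq_one d
        rw [hd] at this
        exact_mod_cast this
      have h8 : d ^ m = d ^ n := by
        have : m = n + 7 * q := by omega
        rw [this, zpow_add, zpow_mul, h7, one_zpow, mul_one]
      rw [← map_zpow, ← map_zpow, h8]

/-- **piece B-NA of S3930** -/
theorem b_na (E : Subgroup G) (hE : Big E) (h8 : Nat.card E = 8) (h2 : TTr E)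
    (hT : IsPGroup 2 (centralizer (E : Set G)))
    (hna : ∃ x ∈ centralizer (E : Set G), ∃ y ∈ centralizer (E : Set G), x * y ≠ y * x) : False := by
  haveI hn := hE.nor
  have hEl := El.of_big hE h8
  have hTn : (centralizer (E : Set G)).Normal := by
    refine ⟨fun t ht g => mem_centralizer_iff.2 fun e he => ?_⟩
    have h3 := mem_centralizer_iff.1 ht (g⁻¹ * e * g⁻¹⁻¹) (hn.conj_mem e he g⁻¹)
    calc e * (g * t * g⁻¹) = g * (g⁻¹ * e * g⁻¹⁻¹ * t) * g⁻¹ := by group
      _ = g * (t * (g⁻¹ * e * g⁻¹⁻¹)) * g⁻¹ := by rw [h3]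
      _ = g * t * g⁻¹ * e := by group
  obtain ⟨hmem, hsq, hcm, hcard⟩ := H16.Suz.main (suz hE h8 h2 hT hna hTn)
  have hET : E ≤ centralizer (E : Set G) := fun a ha =>
    mem_centralizer_iff.2 fun b hb => hEl.comm b hb a ha
  have hcenE : ∀ z : centralizer (E : Set G), z ∈ center (centralizer (E : Set G)) → (z : G) ∈ E := by
    intro z hz
    exact hE.inv z (congrArg Subtype.val ((hmem z).1 hz))
  have H : TT E (centralizer (E : Set G)) :=
    { el := hEl, Tn := hTn, ET := hET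
      cen := fun e he t ht => mem_centralizer_iff.1 ht e he
      sqE := fun t ht => hcenE _ (hsq ⟨t, ht⟩)
      one := fun t _ h => hE.inv t h
      com := by
        intro s hs t ht
        have h3 := hcenE _ (hcm ⟨s, hs⟩⁻¹ ⟨t, ht⟩⁻¹)
        have h4 : ((((⟨s, hs⟩ : centralizer (E : Set G))⁻¹)⁻¹ * ((⟨t, ht⟩ : centralizer (E : Set G))⁻¹)⁻¹ *
          (⟨s, hs⟩ : centralizer (E : Set G))⁻¹ * (⟨t, ht⟩ : centralizer (E : Set G))⁻¹ :
            centralizer (E : Set G)) : G) = cm s t := by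
          show (s⁻¹)⁻¹ * (t⁻¹)⁻¹ * s⁻¹ * t⁻¹ = s * t * s⁻¹ * t⁻¹
          rw [inv_inv, inv_inv]
        rw [h4] at h3
        exact h3
      full := full hEl hn h2
      p2 := hT
      cE := by
        intro g hg
        refine mem_centralizer_iff.2 fun e he => ?_
        exact (mul_inv_eq_iff_eq_mul.1 (hg e he)).symm
      ne := by
        intro h0
        obtain ⟨x, hx, y, hy, hxy⟩ := hna
        rw [← h0] at hx hy
        exact hxy (hEl.comm x hx y hy) }
  have hcZ : Nat.card (center (centralizer (E : Set G))) = 8 := by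
    rw [← h8]
    have h3 : (center (centralizer (E : Set G))).map (centralizer (E : Set G)).subtype = E := by
      ext y
      constructor
      · rintro ⟨z, hz, rfl⟩
        exact hcenE z hz
      · intro hy
        exact ⟨⟨y, hET hy⟩, (hmem _).2 (Subtype.ext (hE.sq y hy)), rfl⟩
    rw [← Subgroup.card_map_of_injective (centralizer (E : Set G)).subtype_injective (K := center (centralizer (E : Set G))), h3]
  rw [hcZ] at hcard
  obtain ⟨v, V⟩ := H.exists_vs
  by_cases hs : ∀ e ∈ E, e ≠ 1 → ∀ t ∈ centralizer (E : Set G), cm (v e) t = 1 ∨ cm (v e) t = e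
  · refine V.not_small H h2 ?_ hs
    intro t ht hc
    refine hcenE ⟨t, ht⟩ (mem_center_iff.2 fun s => Subtype.ext (hc s s.2).symm)
  · push Not at hs
    obtain ⟨e, he, e1, t, ht, h3, h4⟩ := hs
    refine V.not_big H h2 ?_ he e1 ht h3 h4
    rcases hcard with h | h
    · left; rw [h]; norm_num
    · right; rw [h]; norm_num

end

end H30.PyrN
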